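import Cfsg.Agent.Lib.SpWeilGap.Core

/-!
The sum of the transports restricts to a nonzero multiple of the map of blocks.
-/

set_option autoImplicit false
set_option linter.unusedSectionVars false

namespace CfsgLib.SpWeilGap

open Matrix Module CfsgLib.SpMinDegree CfsgLib.SUMinDegree CfsgLib.Classical.SympTrans Cfsg
open scoped MatrixGroups

variable {F : Type*} [Field F] [Fintype F] [DecidableEq F] {m : ℕ}

local notation "X" => (Fin (m + 1) → F)
local notation "V" => (Fin (m + 1) ⊕ Fin (m + 1) → F)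
local notation "G" => Matrix.symplecticGroup (Fin (m + 1)) F
local notation "ω" => sympForm (m + 1) F
local notation "SymM" => CfsgLib.SpMinDegree.Sym
local notation "M₁" => Matrix (Fin (m + 1)) (Fin (m + 1)) F

variable (F m) in
/-- The indicator of the first coordinate. -/
def ind : X := fun i => if i = 0 then 1 else 0

theorem jrot_mem : Matrix.fromBlocks (Matrix.diagonal (ind F m)) (-Matrix.diagonal (1 - ind F m))
    (Matrix.diagonal (1 - ind F m)) (Matrix.diagonal (ind F m)) ∈ G := by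
  rw [SymplecticGroup.mem_iff, Matrix.J, fromBlocks_transpose, fromBlocks_multiply, fromBlocks_multiply]
  simp only [diagonal_transpose, transpose_neg, Matrix.mul_zero, Matrix.zero_mul, zero_add, add_zero,
    Matrix.mul_one, Matrix.mul_neg, Matrix.neg_mul, neg_neg, diagonal_mul_diagonal]
  rw [fromBlocks_inj]
  refine ⟨?_, ?_, ?_, ?_⟩ <;> ext i j <;> by_cases h : i = j <;>
    simp [h, ind, Matrix.one_apply] <;> split_ifs <;> simp

variable (F m) in
/-- The rotation of all pairs of coordinates but the first. -/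
def jrot : G := ⟨_, jrot_mem⟩

theorem app_jrot (p r : X) :
    app (jrot F m) (vec p r) =
      vec (fun i => ind F m i * p i - (1 - ind F m i) * r i) (fun i => (1 - ind F m i) * p i + ind F m i * r i) := by
  show Matrix.fromBlocks _ _ _ _ *ᵥ Sum.elim p r = _
  rw [fromBlocks_mulVec]
  funext j
  rcases j with i | i <;> simp [vec, mulVec_diagonal, sub_eq_add_neg]
  all_goals ring

theorem jrot_eV : app (jrot F m) (eV F m) = eV F m := by
  rw [eV, app_jrot]
  congr 1 <;> funext i <;> simp [ind, e₀, Pi.single_apply] <;> intro h <;> simp [h]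

theorem jrot_fV : app (jrot F m) (fV F m) = fV F m := by
  rw [fV, app_jrot]
  congr 1 <;> funext i <;> simp [ind, e₀, Pi.single_apply] <;> intro h <;> simp [h]

theorem snd_jrot_inv (y : X) (hy : y 0 = 1) : sndV (app (jrot F m)⁻¹ (vec 0 y)) = e₀ F m := by
  set v := app (jrot F m)⁻¹ (vec 0 y) with hv
  have h : app (jrot F m) v = vec 0 y := app_inv' _ _
  rw [← vec_halves v, app_jrot] at h
  funext i
  by_cases hi : i = 0
  · subst hi
    have := congrFun (congrArg sndV h) 0
    simpa [sndV_vec, ind, hy, e₀] using this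
  · have := congrFun (congrArg fstV h) i
    simpa [fstV_vec, ind, hi, e₀] using this

theorem trChar_ne (T : M₁) (S : SymM F (m + 1)) : trChar T S ≠ 0 := fun h => by
  have h1 := (trChar T).map_add_eq_mul S (-S)
  rw [add_neg_cancel, AddChar.map_zero_eq_one, h, zero_mul] at h1
  exact one_ne_zero h1

variable {U : Type*} [AddCommGroup U] [Module ℂ U]
  (ρ : Representation ℂ ↥(Matrix.symplecticGroup (Fin (m + 1)) F) U)
variable {U' : Type*} [AddCommGroup U'] [Module ℂ U']
  (ρ' : Representation ℂ ↥(Matrix.symplecticGroup (Fin (m + 1)) F) U')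
variable (α : F)

theorem prV_comm_T {a b : V} (h : ω a b = 0) (c : F) (z : U) :
    ρ (T a c) (prV ρ α b z) = prV ρ α b (ρ (T a c) z) := by
  rw [prV_conj_apply, app_T, f_swap, h, neg_zero, mul_zero, zero_smul, add_zero]

theorem prV_stays {a b : V} (h : ω a b = 0) {z : U} (hz : z ∈ weight ρ (T a) (chi F α)) :
    prV ρ α b z ∈ weight ρ (T a) (chi F α) := (mem_weight ρ _).mpr fun c => by
  rw [prV_comm_T ρ α h, (mem_weight ρ _).mp hz, map_smul]

section

variable (h2 : (2 : F) ≠ 0) (hα : α ≠ 0) (hm : 1 ≤ m) (hlow : LowRep ρ) (hlow' : LowRep ρ')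
  (hε : ∃ ε : ℂ, ε ≠ 0 ∧ (∀ z, ρ (negI F m) z = ε • z) ∧ ∀ z, ρ' (negI F m) z = ε • z)

include h2 hα hm hlow hlow'

theorem prV_blockMap (L : U →ₗ[ℂ] U') (z : U) :
    prV ρ' α (eV F m) (blockMap ρ ρ' α L z) = blockMap ρ ρ' α L z := by
  rw [← trans_eV ρ ρ' α h2 hα hm hlow hlow', prV_trans ρ ρ' α h2 hα hm hlow hlow' L eV_ne (f_self _),
    trans_eV ρ ρ' α h2 hα hm hlow hlow', trans_eV ρ ρ' α h2 hα hm hlow hlow']
  exact LinearMap.congr_fun (blockMap_prV ρ ρ' α h2 hα hlow L) z

include hε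

theorem key_common (L : U →ₗ[ℂ] U') {v w : V} (hv : v ≠ 0) (hw : w ≠ 0) (hew : ω (eV F m) w = 0)
    (hvw : ω v w = 0) {u : U} (hue : u ∈ weight ρ (T (eV F m)) (chi F α))
    (huw : u ∈ weight ρ (T w) (chi F α)) :
    prV ρ' α (eV F m) (trans ρ ρ' α L v u) = blockMap ρ ρ' α L (prV ρ α v u) := by
  have h1 : prV ρ α v u ∈ weight ρ (T w) (chi F α) :=
    prV_stays ρ α (by rw [f_swap, hvw, neg_zero]) huw
  rw [← trans_prV ρ ρ' α h2 hα hm hlow hlow' L hv u,
    trans_compat ρ ρ' α h2 hα hm hlow hlow' hε L hv hvw (prV_mem ρ α v u) h1,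
    prV_trans ρ ρ' α h2 hα hm hlow hlow' L hw hew,
    ← trans_compat ρ ρ' α h2 hα hm hlow hlow' hε L eV_ne hew (prV_mem ρ α _ _)
      (prV_stays ρ α (by rw [f_swap, hew, neg_zero]) h1),
    trans_eV ρ ρ' α h2 hα hm hlow hlow']
  exact LinearMap.congr_fun (blockMap_prV ρ ρ' α h2 hα hlow L) _

theorem key_perp (L : U →ₗ[ℂ] U') {v : V} (hv : v ≠ 0) (hev : ω (eV F m) v = 0) (z : U) :
    prV ρ' α (eV F m) (trans ρ ρ' α L v (prV ρ α (eV F m) z)) =
      blockMap ρ ρ' α L (prV ρ α v (prV ρ α (eV F m) z)) := by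
  set u := prV ρ α (eV F m) z
  rw [← trans_prV ρ ρ' α h2 hα hm hlow hlow' L hv u,
    ← trans_compat ρ ρ' α h2 hα hm hlow hlow' hε L eV_ne hev
      (prV_stays ρ α hev (prV_mem ρ α _ _)) (prV_mem ρ α v u),
    trans_eV ρ ρ' α h2 hα hm hlow hlow', prV_blockMap ρ ρ' α h2 hα hm hlow hlow']

variable [FiniteDimensional ℂ U]

theorem key_partner (L : U →ₗ[ℂ] U') {c : F} (hc : c ≠ 0) (z : U) :
    prV ρ' α (eV F m) (trans ρ ρ' α L (c • fV F m) (prV ρ α (eV F m) z)) =
      blockMap ρ ρ' α L (prV ρ α (c • fV F m) (prV ρ α (eV F m) z)) := by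
  classical
  set v := c • fV F m with hvdef
  have hv : v ≠ 0 := smul_ne_zero hc fun h => by simpa [fV, vec, e₀] using congrFun h (.inr 0)
  set f1 := prV ρ' α (eV F m) ∘ₗ trans ρ ρ' α L v with hf1
  set f2 := blockMap ρ ρ' α L ∘ₗ prV ρ α v with hf2
  set Pe := prV ρ α (eV F m) with hPe
  -- the weights off the base weight
  have hline : ∀ (x : X), x 0 = 1 → x ≠ e₀ F m → ∀ w ∈ wt ρ (lineT α x), f1 (Pe w) = f2 (Pe w) := by
    intro x hx hne w hw
    obtain ⟨i, hi⟩ : ∃ i, x i ≠ e₀ F m i := Function.ne_iff.mp hne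
    have hi0 : i ≠ 0 := fun h => hi (by subst h; simp [e₀, hx])
    have hxi : x i ≠ 0 := fun h => hi (by simp [e₀, hi0, h])
    set u : V := vec (Pi.single i (x i)⁻¹) 0 with hu
    have hu0 : u ≠ 0 := fun h => by simpa [hu, vec, hxi] using congrFun h (.inl i)
    refine key_common ρ ρ' α h2 hα hm hlow hlow' hε L hv hu0 (by rw [form_eV, hu, sndV_vec]; simp)
      (by rw [hvdef, f_smul_left, form_fV, hu, fstV_vec]; simp [hi0.symm]) (prV_mem ρ α _ _) ?_
    rw [hPe, prV_eV_wt ρ α hw, if_pos (lineT_00 α hx), one_smul]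
    refine (mem_weight ρ _).mpr fun d => ?_
    rw [hu, T_vec, (mem_wt ρ).mp hw]
    congr 1
    show trChar (α • vecMulVec x x) _ = RankOne.psi F (α * d)
    rw [trChar_line]
    congr 1
    simp
    field_simp
  have hoff : f1 ∘ₗ Pe ∘ₗ (LinearMap.id - pM ρ α) = f2 ∘ₗ Pe ∘ₗ (LinearMap.id - pM ρ α) := by
    refine ext_block ρ α h2 hα hlow (fun T hT h00 w hw => ?_) fun x hx w hw => ?_
    · have : pM ρ α w = 0 := prW_ne ρ h2 (lineT_symm α _) hT
        (fun h => h00 (by rw [h]; exact lineT_00 α (by simp [e₀]))) hw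
      simp [this, hPe, prV_eV_wt ρ α hw, if_neg h00]
    · by_cases hxe : x = e₀ F m
      · subst hxe
        have : pM ρ α w = w := prW_self ρ hw
        simp [this]
      · have : pM ρ α w = 0 := prW_ne ρ h2 (lineT_symm α _) (lineT_symm α x)
          (fun h => hxe (lineT_inj hα hx (by simp [e₀]) h)) hw
        simp only [LinearMap.comp_apply, LinearMap.sub_apply, LinearMap.id_apply, this, sub_zero]
        exact hline x hx hxe w hw
  -- the base weight
  set i₁ : Fin (m + 1) := ⟨1, by omega⟩ with hi₁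
  have hi10 : i₁ ≠ 0 := by simp [hi₁, Fin.ext_iff]
  set x₁ : X := e₀ F m + Pi.single i₁ 1 with hx₁
  have hx10 : x₁ 0 = 1 := by simp [hx₁, e₀, hi10.symm]
  set M := wt ρ (lineT α (e₀ F m))
  set N := wt ρ (lineT α x₁)
  let Ψ : N →ₗ[ℂ] M :=
    { toFun := fun w => ⟨pM ρ α (ρ (jrot F m) (w : U)), pM_mem ρ α _⟩
      map_add' := fun a b => Subtype.ext (by simp)
      map_smul' := fun a b => Subtype.ext (by simp) }
  let Φ : M →ₗ[ℂ] N :=
    { toFun := fun w => ⟨ρ (tau x₁ hx10) (w : U), tau_wt ρ α hx10 w.2⟩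
      map_add' := fun a b => Subtype.ext (by simp)
      map_smul' := fun a b => Subtype.ext (by simp) }
  have hJe : ∀ w ∈ N, ρ (jrot F m) w ∈ weight ρ (T (eV F m)) (chi F α) := fun w hw => by
    refine (mem_weight ρ _).mpr fun d => ?_
    rw [← rep_mul, show T (eV F m) d * jrot F m = jrot F m * T (eV F m) d by
      conv_lhs => rw [← jrot_eV, ← conj_T]
      group, rep_mul, ← prV_self ρ α (v := eV F m) (z := w), (mem_weight ρ _).mp (prV_mem ρ α _ _), map_smul]
    refine (mem_weight ρ _).mpr fun d' => ?_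
    rw [eV, T_vec, (mem_wt ρ).mp hw]
    congr 1
    show RankOne.psi F _ = RankOne.psi F _
    rw [trace_line_e₀, lineT_00 α hx10]
  have hΨ : Function.Injective Ψ := by
    rw [← LinearMap.ker_eq_bot, LinearMap.ker_eq_bot']
    intro w hw
    have hw' : pM ρ α (ρ (jrot F m) (w : U)) = 0 := congrArg Subtype.val hw
    set u := ρ (jrot F m) (w : U) with hu
    have heig : ∀ (y : X) (hy : y 0 = 1), ∃ d : ℂ, d ≠ 0 ∧ ρ (tau y hy) u = d • u := by
      intro y hy
      have hH : InH ((jrot F m)⁻¹ * tau y hy * jrot F m) := (inH_tau y hy).conj jrot_eV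
      obtain ⟨S, x, hx, -, hfac, hsnd⟩ := hH.factor
      have hxe : x = e₀ F m := by
        rw [← hsnd, app_mul, app_mul, jrot_fV, fV, app_tau]
        rw [show vec ((0 : X) + ((e₀ F m - y) ⬝ᵥ (0 : X)) • e₀ F m) (e₀ F m - e₀ F m 0 • (e₀ F m - y)) = vec 0 y by
          simp [e₀]]
        exact snd_jrot_inv y hy
      subst hxe
      rw [tau_e₀, mul_one] at hfac
      refine ⟨trChar (lineT α x₁) S, trChar_ne _ S, ?_⟩
      rw [hu, ← rep_mul, show tau y hy * jrot F m = jrot F m * unip S by rw [← hfac]; group, rep_mul,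
        (mem_wt ρ).mp w.2, map_smul]
    have hu0 : u = 0 := by
      rw [← projL_sum ρ (T := ⇑(unip : AddChar (SymM F (m + 1)) G)) unip_add u]
      refine Finset.sum_eq_zero fun ψ _ => ?_
      obtain ⟨T, rfl⟩ := exists_trChar h2 ψ
      show prW ρ T.1 u = 0
      by_contra hne
      have h00 : T.1 0 0 = α := by
        by_contra h00
        refine hne ?_
        have hcomm : prW ρ T.1 ∘ₗ Pe = Pe ∘ₗ prW ρ T.1 := ext_wt ρ h2 fun T' hT' w' hw' => by
          simp only [LinearMap.comp_apply, hPe, prV_eV_wt ρ α hw', map_smul]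
          by_cases h : T' = T.1
          · subst h; rw [prW_self ρ hw', prV_eV_wt ρ α hw']
          · rw [prW_ne ρ h2 T.2 hT' h hw', smul_zero, map_zero]
        have := LinearMap.congr_fun hcomm u
        simp only [LinearMap.comp_apply, hPe, prV_self ρ α (z := u) (hJe _ w.2),
          prV_eV_wt ρ α (prW_mem ρ T.1 u), if_neg h00, zero_smul] at this
        exact this
      obtain ⟨y, hy, hT⟩ := exists_line ρ α h2 hα hlow T.2 h00 (prW_mem ρ _ _) hne
      obtain ⟨d, hd, hdu⟩ := heig y hy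
      refine hne ?_
      rw [hT]
      have hcomm : ρ (tau y hy)⁻¹ ∘ₗ prW ρ (lineT α y) = pM ρ α ∘ₗ ρ (tau y hy)⁻¹ := ext_wt ρ h2 fun T' hT' w' hw' => by
        simp only [LinearMap.comp_apply]
        by_cases h : T' = lineT α y
        · subst h
          rw [prW_self ρ hw', show pM ρ α _ = _ from prW_self ρ (by
            rw [← congr_lineT_self α y hy]; exact tau_inv_wt ρ hy hw')]
        · rw [prW_ne ρ h2 (lineT_symm α y) hT' h hw', map_zero]
          refine (prW_ne ρ h2 (lineT_symm α _) (isSymm_congr' hT' _) (fun e => h ?_) (tau_inv_wt ρ hy hw')).symm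
          rw [← congr_lineT_inv α y hy, ← e, ← congr'_mul, mul_inv_cancel, congr'_one]
      have h1 := LinearMap.congr_fun hcomm u
      simp only [LinearMap.comp_apply] at h1
      have h3 : d • ρ (tau y hy)⁻¹ u = u := by rw [← map_smul, ← hdu, rep_inv]
      have h4 : pM ρ α (ρ (tau y hy)⁻¹ u) = 0 := by
        refine smul_right_injective U hd ?_
        show d • pM ρ α (ρ (tau y hy)⁻¹ u) = d • 0
        rw [← map_smul, h3, hw', smul_zero]
      rw [h4] at h1
      rw [← rep_inv' ρ (tau y hy) (prW ρ (lineT α y) u), h1, map_zero]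
    exact Subtype.ext (by rw [Submodule.coe_zero, ← rep_inv ρ (jrot F m) (w : U), ← hu, hu0, map_zero])
  have hΦ : Function.Injective Φ := fun a b h => Subtype.ext (by
    have := congrArg (fun w : N => ρ (tau x₁ hx10)⁻¹ (w : U)) h
    simpa [Φ, rep_inv] using this)
  have hsurj : Function.Surjective Ψ := (LinearMap.injective_iff_surjective_of_finrank_eq_finrank
    (le_antisymm (LinearMap.finrank_le_finrank_of_injective hΨ)
      (LinearMap.finrank_le_finrank_of_injective hΦ))).mp hΨ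
  have hon : ∀ w ∈ M, f1 (Pe w) = f2 (Pe w) := by
    intro w hw
    obtain ⟨a, ha⟩ := hsurj ⟨w, hw⟩
    have ha' : pM ρ α (ρ (jrot F m) (a : U)) = w := congrArg Subtype.val ha
    set u := ρ (jrot F m) (a : U) with hu
    set e1 : V := vec (Pi.single i₁ 1) 0 with he1
    have he1ne : e1 ≠ 0 := fun h => by simpa [he1, vec] using congrFun h (.inl i₁)
    have huw : u ∈ weight ρ (T (app (jrot F m) e1)) (chi F α) := (mem_weight ρ _).mpr fun d => by
      rw [hu, ← conj_T, ← rep_mul, inv_mul_cancel_right, rep_mul, he1, T_vec, (mem_wt ρ).mp a.2, map_smul]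
      congr 1
      show trChar (α • vecMulVec x₁ x₁) _ = RankOne.psi F (α * d)
      rw [trChar_line]
      simp [hx₁, e₀, hi10]
    have h1 := key_common ρ ρ' α h2 hα hm hlow hlow' hε L hv (w := app (jrot F m) e1)
      (app_ne_zero _ he1ne)
      (by rw [← jrot_eV (F := F) (m := m), f_app, form_eV, he1, sndV_vec]; simp)
      (by rw [hvdef, ← jrot_fV (F := F) (m := m), f_smul_left, f_app, form_fV, he1, fstV_vec]; simp [hi10.symm])
      (hJe a a.2) huw
    have hu' : Pe u = u := prV_self ρ α (hJe a a.2)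
    have h3 := LinearMap.congr_fun hoff u
    simp only [LinearMap.comp_apply, LinearMap.sub_apply, LinearMap.id_apply, map_sub, ha', hu'] at h3
    rw [show f1 u = f2 u from h1] at h3
    exact sub_right_injective h3
  have hall : f1 ∘ₗ Pe = f2 ∘ₗ Pe := by
    refine ext_block ρ α h2 hα hlow (fun T hT h00 w hw => ?_) fun x hx w hw => ?_
    · simp [hPe, prV_eV_wt ρ α hw, if_neg h00]
    · by_cases hxe : x = e₀ F m
      · subst hxe; exact hon w hw
      · exact hline x hx hxe w hw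
  exact LinearMap.congr_fun hall z

theorem key (L : U →ₗ[ℂ] U') {v : V} (hv : v ≠ 0) (z : U) :
    prV ρ' α (eV F m) (trans ρ ρ' α L v (prV ρ α (eV F m) z)) =
      blockMap ρ ρ' α L (prV ρ α v (prV ρ α (eV F m) z)) := by
  by_cases hev : ω (eV F m) v = 0
  · exact key_perp ρ ρ' α h2 hα hm hlow hlow' hε L hv hev z
  set μ := ω (eV F m) v
  obtain ⟨k, -, hke, hkv⟩ := exists_move_partner (k := 0) (u := eV F m) (v := -fV F m) (v' := μ⁻¹ • v)
    (mem_W_zero _) (mem_W_zero _) (mem_W_zero _)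
    (by rw [← neg_one_smul F (fV F m), f_smul_right, form_eV, fV, sndV_vec]; simp [e₀])
    (by rw [f_smul_right, inv_mul_cancel₀ hev])
  have hv' : app k ((-μ) • fV F m) = v := by
    rw [neg_smul, ← smul_neg, app_smul, hkv, smul_smul, mul_inv_cancel₀ hev, one_smul]
  have h := congrArg (ρ' k) (key_partner ρ ρ' α h2 hα hm hlow hlow' hε L (neg_ne_zero.mpr hev) (ρ k⁻¹ z))
  rw [prV_conj_apply, hke, trans_equiv ρ ρ' α h2 hα hm hlow hlow' L k
      (smul_ne_zero (neg_ne_zero.mpr hev) fun h => by simpa [fV, vec, e₀] using congrFun h (.inr 0)),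
    blockMap_stab ρ ρ' α h2 hα hm hlow hlow' hke, prV_conj_apply, prV_conj_apply, hke, rep_inv', hv'] at h
  rw [prV_conj_apply, hke, rep_inv'] at h
  exact h

/-- Representations of small rank with a common weight and sign have a nonzero intertwiner. -/
theorem exists_intertwiner (hirr : ρ.IsIrreducible) (hM : wt ρ (lineT α (e₀ F m)) ≠ ⊥)
    (hM' : wt ρ' (lineT α (e₀ F m)) ≠ ⊥) :
    ∃ L : U →ₗ[ℂ] U', L ≠ 0 ∧ ∀ g, ρ' g ∘ₗ L = L ∘ₗ ρ g := by
  classical
  obtain ⟨z, hz, hz0⟩ := Submodule.exists_mem_ne_zero_of_ne_bot hM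
  obtain ⟨z', hz', hz0'⟩ := Submodule.exists_mem_ne_zero_of_ne_bot hM'
  obtain ⟨φ, hφ⟩ := Module.Projective.exists_dual_ne_zero ℂ hz0
  let L : U →ₗ[ℂ] U' := φ.smulRight z'
  set S : Finset V := Finset.univ.filter fun v => v ≠ 0 with hS
  set Ls : U →ₗ[ℂ] U' := ∑ v ∈ S, trans ρ ρ' α L v with hLs
  set K : U →ₗ[ℂ] U := ∑ v ∈ S, prV ρ α v with hK
  have hperm : ∀ g : G, ∀ v, v ∈ S ↔ app g v ∈ S := fun g v => by
    simp only [hS, Finset.mem_filter, Finset.mem_univ, true_and]
    exact ⟨app_ne_zero g, fun h e => h (by rw [e]; exact mulVec_zero _)⟩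
  let σ : G → Equiv.Perm V := fun g => ⟨app g, app g⁻¹, app_inv g, app_inv' g⟩
  have hKc : ∀ g : G, K ∘ₗ ρ g = ρ g ∘ₗ K := fun g => LinearMap.ext fun w => by
    simp only [hK, LinearMap.comp_apply, LinearMap.sum_apply, map_sum]
    refine (Finset.sum_equiv (σ g) (hperm g) fun v _ => ?_).symm
    rw [prV_conj_apply]; rfl
  have hLc : ∀ g, ρ' g ∘ₗ Ls = Ls ∘ₗ ρ g := fun g => LinearMap.ext fun w => by
    simp only [hLs, LinearMap.comp_apply, LinearMap.sum_apply, map_sum]
    refine Finset.sum_equiv (σ g) (hperm g) fun v hv => ?_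
    exact trans_equiv ρ ρ' α h2 hα hm hlow hlow' L g (Finset.mem_filter.mp hv).2 w
  let Ki : Representation.IntertwiningMap ρ ρ := ⟨K, hKc⟩
  obtain ⟨κ, hκ⟩ := (Representation.IsIrreducible.algebraMap_intertwiningMap_bijective_of_isAlgClosed
    (ρ := ρ)).2 Ki
  have hKκ : K = κ • LinearMap.id := by
    rw [show K = Ki.toLinearMap from rfl, ← hκ, Algebra.algebraMap_eq_smul_one]
    rfl
  have hzP : prV ρ α (eV F m) z = z := by
    rw [prV_eV_wt ρ α hz, if_pos (lineT_00 α (by simp [e₀])), one_smul]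
  have hκ0 : κ ≠ 0 := by
    intro h0
    have htr := congrArg (LinearMap.trace ℂ U) hKκ
    rw [hK, h0, zero_smul, map_zero, map_sum] at htr
    let e : G → (U ≃ₗ[ℂ] U) := fun g => LinearEquiv.ofLinearMap (ρ g) (ρ g⁻¹)
      (LinearMap.ext fun w => rep_inv' ρ g w) (LinearMap.ext fun w => rep_inv ρ g w)
    have heq : ∀ v ∈ S, LinearMap.trace ℂ U (prV ρ α v) = LinearMap.trace ℂ U (prV ρ α (eV F m)) := by
      intro v hv
      obtain ⟨g, rfl⟩ : ∃ k, app k (eV F m) = v := ⟨mover v, app_mover (Finset.mem_filter.mp hv).2⟩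
      rw [← LinearMap.trace_conj' (prV ρ α (eV F m)) (e g)]
      congr 1
      refine LinearMap.ext fun w => ?_
      show _ = ρ g (prV ρ α (eV F m) (ρ g⁻¹ w))
      rw [prV_conj_apply, rep_inv']
    rw [Finset.sum_congr rfl heq, Finset.sum_const, nsmul_eq_mul] at htr
    have hne : (S.card : ℂ) ≠ 0 := Nat.cast_ne_zero.mpr (Finset.card_ne_zero.mpr
      ⟨eV F m, Finset.mem_filter.mpr ⟨Finset.mem_univ _, eV_ne⟩⟩)
    have hproj : LinearMap.IsProj (LinearMap.range (prV ρ α (eV F m))) (prV ρ α (eV F m)) :=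
      ⟨fun w => LinearMap.mem_range_self _ _, by rintro _ ⟨w, rfl⟩; exact prV_prV ρ α _ w⟩
    have h0' := (mul_eq_zero.mp htr).resolve_left hne
    rw [hproj.trace, Nat.cast_eq_zero, Submodule.finrank_eq_zero, LinearMap.range_eq_bot] at h0'
    rw [h0', LinearMap.zero_apply] at hzP
    exact hz0 hzP.symm
  refine ⟨Ls, fun h => ?_, hLc⟩
  have h1 : prV ρ' α (eV F m) (Ls (prV ρ α (eV F m) z)) = blockMap ρ ρ' α L (K (prV ρ α (eV F m) z)) := by
    simp only [hLs, hK, LinearMap.sum_apply, map_sum]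
    exact Finset.sum_congr rfl fun v hv =>
      key ρ ρ' α h2 hα hm hlow hlow' hε L (Finset.mem_filter.mp hv).2 z
  rw [h, LinearMap.zero_apply, map_zero, hKκ, hzP, LinearMap.smul_apply, LinearMap.id_apply, map_smul,
    blockMap_base ρ ρ' α h2 hα L hz] at h1
  simp only [L, LinearMap.smulRight_apply, map_smul, show pM ρ' α z' = z' from prW_self ρ' hz',
    smul_smul] at h1
  exact smul_ne_zero (mul_ne_zero hκ0 hφ) hz0' h1.symm

end

end CfsgLib.SpWeilGap
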