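import Cfsg.Agent.Lib.SpWeilGap.Stab

/-!
Maps between the blocks of one root group in two representations of small rank: they commute with
the stabiliser of the vector.
-/

set_option autoImplicit false
set_option linter.unusedSectionVars false

namespace CfsgLib.SpWeilGap

open Matrix CfsgLib.SpMinDegree CfsgLib.SUMinDegree CfsgLib.Classical.SympTrans Cfsg
open scoped MatrixGroups

variable {F : Type*} [Field F] [Fintype F] [DecidableEq F] {m : ℕ}

local notation "X" => (Fin (m + 1) → F)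
local notation "V" => (Fin (m + 1) ⊕ Fin (m + 1) → F)
local notation "G" => Matrix.symplecticGroup (Fin (m + 1)) F
local notation "ω" => sympForm (m + 1) F
local notation "SymM" => CfsgLib.SpMinDegree.Sym
local notation "M₁" => Matrix (Fin (m + 1)) (Fin (m + 1)) F

theorem leviS_mul (A B : GL (Fin (m + 1)) F) : (leviS (A * B) : G) = leviS A * leviS B := by
  apply Subtype.ext
  show Matrix.fromBlocks _ 0 0 _ = Matrix.fromBlocks _ 0 0 _ * Matrix.fromBlocks _ 0 0 _
  rw [fromBlocks_multiply]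
  simp [_root_.mul_inv_rev, transpose_mul]

theorem leviS_one : (leviS (1 : GL (Fin (m + 1)) F) : G) = 1 := by
  apply Subtype.ext
  show Matrix.fromBlocks _ 0 0 _ = _
  simp [fromBlocks_one]

theorem leviS_inv (A : GL (Fin (m + 1)) F) : (leviS A⁻¹ : G) = (leviS A)⁻¹ :=
  eq_inv_of_mul_eq_one_left (by rw [← leviS_mul, inv_mul_cancel, leviS_one])

theorem tau_e₀ : (tau (e₀ F m) (by simp [e₀]) : G) = 1 := by
  rw [tau, show shift (e₀ F m) (by simp [e₀]) = 1 from Units.ext (by simp [shift]), leviS_one]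

theorem tau_mul (x y : X) (hx : x 0 = 1) (hy : y 0 = 1) :
    (tau x hx * tau y hy : G) = tau (x + y - e₀ F m) (by simp [e₀, hx, hy]) := by
  rw [tau, tau, ← leviS_mul, tau]
  congr 1
  refine Units.ext ?_
  show (1 + vecMulVec (e₀ F m) _) * (1 + vecMulVec (e₀ F m) _) = 1 + vecMulVec (e₀ F m) _
  rw [mul_add, add_mul, add_mul, one_mul, mul_one, one_mul, vecMulVec_mul_vecMulVec,
    show (e₀ F m - x) ⬝ᵥ e₀ F m = 0 by simp [e₀, hx]]
  rw [zero_smul, vecMulVec_zero, add_zero, add_assoc, ← vecMulVec_add]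
  congr 2
  abel

/-- The matrix of a line. -/
def lineT (α : F) (x : X) : M₁ := α • vecMulVec x x

theorem lineT_symm (α : F) (x : X) : (lineT α x).IsSymm := by
  show (α • vecMulVec x x)ᵀ = α • vecMulVec x x
  rw [transpose_smul, transpose_vecMulVec]

theorem lineT_00 (α : F) {x : X} (hx : x 0 = 1) : lineT α x 0 0 = α := by
  simp [lineT, vecMulVec_apply, hx]

theorem lineT_inj {α : F} (hα : α ≠ 0) {x y : X} (hx : x 0 = 1) (hy : y 0 = 1)
    (h : lineT α x = lineT α y) : x = y := funext fun i => by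
  have := congrFun (congrFun h 0) i
  simp only [lineT, Matrix.smul_apply, vecMulVec_apply, hx, hy, one_mul, smul_eq_mul] at this
  exact mul_left_cancel₀ hα this

theorem congr_lineT_shift (α : F) (y x : X) (hx : x 0 = 1) :
    congr' (lineT α y) (shift x hx) = lineT α (y + y 0 • (e₀ F m - x)) := congr_shift y x hx α

theorem congr_lineT_self (α : F) (x : X) (hx : x 0 = 1) :
    congr' (lineT α x) (shift x hx) = lineT α (e₀ F m) := by
  rw [congr_lineT_shift, hx, one_smul, add_sub_cancel]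

theorem congr_lineT_inv (α : F) (x : X) (hx : x 0 = 1) :
    congr' (lineT α (e₀ F m)) (shift x hx)⁻¹ = lineT α x := by
  rw [← congr_lineT_self α x hx, ← congr'_mul, mul_inv_cancel, congr'_one]

theorem congr_00 (T : M₁) (x : X) (hx : x 0 = 1) : congr' T (shift x hx) 0 0 = T 0 0 := by
  have hcol : ∀ i, (shift x hx : M₁) i 0 = if i = 0 then 1 else 0 := fun i => by
    show (1 + vecMulVec (e₀ F m) (e₀ F m - x)) i 0 = _
    simp [Matrix.one_apply, vecMulVec_apply, e₀, hx]
  rw [congr', Matrix.mul_apply]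
  simp [hcol, Matrix.mul_apply]

theorem trace_line (T : M₁) (c : F) (p : X) :
    Matrix.trace (T * (line c p).1) = c * (p ⬝ᵥ (T *ᵥ p)) := by
  show Matrix.trace (T * (c • vecMulVec p p)) = _
  rw [Matrix.mul_smul, trace_smul, mul_vecMulVec, trace_vecMulVec, smul_eq_mul, dotProduct_comm]

theorem trace_line_e₀ (T : M₁) (c : F) : Matrix.trace (T * (line c (e₀ F m)).1) = T 0 0 * c := by
  rw [trace_line]
  simp [e₀, Matrix.mulVec_single, mul_comm]

variable (F) in
/-- The character with parameter `α`. -/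
noncomputable def chi (α : F) : AddChar F ℂ where
  toFun c := RankOne.psi F (α * c)
  map_zero_eq_one' := by rw [mul_zero, psi_zero]
  map_add_eq_mul' a b := by rw [mul_add, psi_add]

theorem chi_inj {α β : F} (h : chi F α = chi F β) : α = β :=
  psi_inj fun c => DFunLike.congr_fun h c

theorem T_add' (v : V) (a b : F) : (T v (a + b) : G) = T v a * T v b := (T_mul v a b).symm

variable {U : Type*} [AddCommGroup U] [Module ℂ U]
  (ρ : Representation ℂ ↥(Matrix.symplecticGroup (Fin (m + 1)) F) U)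
variable {U' : Type*} [AddCommGroup U'] [Module ℂ U']
  (ρ' : Representation ℂ ↥(Matrix.symplecticGroup (Fin (m + 1)) F) U')
variable (α : F)

/-- The projection on the weight space of a symmetric matrix. -/
noncomputable def prW (T : M₁) : U →ₗ[ℂ] U :=
  projL ρ ⇑(unip : AddChar (SymM F (m + 1)) G) (trChar T)

/-- The projection on the block of a vector. -/
noncomputable def prV (v : V) : U →ₗ[ℂ] U := projL ρ (T v) (chi F α)

/-- The base weight. -/
noncomputable def pM : U →ₗ[ℂ] U := prW ρ (lineT α (e₀ F m))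

theorem rep_mul (g h : G) (z : U) : ρ (g * h) z = ρ g (ρ h z) := by rw [map_mul, Module.End.mul_apply]

theorem rep_inv (g : G) (z : U) : ρ g⁻¹ (ρ g z) = z := by rw [← rep_mul, inv_mul_cancel, map_one]; rfl

theorem rep_inv' (g : G) (z : U) : ρ g (ρ g⁻¹ z) = z := by rw [← rep_mul, mul_inv_cancel, map_one]; rfl

theorem prW_mem (T : M₁) (z : U) : prW ρ T z ∈ wt ρ T := projL_mem ρ unip_add _ z

theorem pM_mem (z : U) : pM ρ α z ∈ wt ρ (lineT α (e₀ F m)) := prW_mem ρ _ z

theorem prW_self {T : M₁} {z : U} (hz : z ∈ wt ρ T) : prW ρ T z = z := projL_self ρ hz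

theorem prW_ne (h2 : (2 : F) ≠ 0) {T T' : M₁} (hT : T.IsSymm) (hT' : T'.IsSymm) (hne : T' ≠ T) {z : U}
    (hz : z ∈ wt ρ T') : prW ρ T z = 0 := by
  classical
  rw [prW, projL_weight ρ hz, if_neg, zero_smul]
  intro h
  exact hne (congrArg (fun S : SymM F (m + 1) => S.1) (trChar_inj h2 (a₁ := ⟨T', hT'⟩) (a₂ := ⟨T, hT⟩) h))

theorem levi_wt {T : M₁} (A : GL (Fin (m + 1)) F) {z : U} (hz : z ∈ wt ρ T) :
    ρ (leviS A) z ∈ wt ρ (congr' T A⁻¹) := by
  have := levi_mem_wt ρ A⁻¹ hz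
  rwa [leviS_inv, inv_inv] at this

theorem tau_inv_wt {x : X} (hx : x 0 = 1) {T : M₁} {z : U} (hz : z ∈ wt ρ T) :
    ρ (tau x hx)⁻¹ z ∈ wt ρ (congr' T (shift x hx)) := levi_mem_wt ρ _ hz

theorem tau_wt {x : X} (hx : x 0 = 1) {z : U} (hz : z ∈ wt ρ (lineT α (e₀ F m))) :
    ρ (tau x hx) z ∈ wt ρ (lineT α x) := by
  rw [← congr_lineT_inv α x hx]
  exact levi_wt ρ _ hz

theorem prV_eV_wt {T : M₁} {z : U} (hz : z ∈ wt ρ T) :
    prV ρ α (eV F m) z = (if T 0 0 = α then (1 : ℂ) else 0) • z := by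
  classical
  have hφ : z ∈ weight ρ (Classical.SympTrans.T (eV F m)) (chi F (T 0 0)) := (mem_weight ρ _).mpr fun c => by
    rw [eV, T_vec, (mem_wt ρ).mp hz]
    congr 1
    show RankOne.psi F _ = RankOne.psi F _
    rw [trace_line_e₀]
  rw [prV, projL_weight ρ hφ]
  congr 1
  by_cases h : T 0 0 = α
  · rw [if_pos h, if_pos (by rw [h])]
  · rw [if_neg h, if_neg fun e => h (chi_inj e)]

theorem prV_conj (g : G) (v : V) : ρ g ∘ₗ prV ρ α v = prV ρ α (app g v) ∘ₗ ρ g :=
  projL_conj ρ (fun c => conj_T g v c) _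

theorem prV_conj_apply (g : G) (v : V) (z : U) : ρ g (prV ρ α v z) = prV ρ α (app g v) (ρ g z) :=
  LinearMap.congr_fun (prV_conj ρ α g v) z

theorem prV_mem (v : V) (z : U) : prV ρ α v z ∈ weight ρ (T v) (chi F α) := projL_mem ρ (T_add' v) _ z

theorem prV_self {v : V} {z : U} (hz : z ∈ weight ρ (T v) (chi F α)) : prV ρ α v z = z := projL_self ρ hz

theorem prV_prV (v : V) (z : U) : prV ρ α v (prV ρ α v z) = prV ρ α v z := prV_self ρ α (prV_mem ρ α v z)

/-- The block map of a linear map. -/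
noncomputable def blockMap (L : U →ₗ[ℂ] U') : U →ₗ[ℂ] U' :=
  ∑ x : {x : X // x 0 = 1}, ρ' (tau x.1 x.2) ∘ₗ pM ρ' α ∘ₗ L ∘ₗ pM ρ α ∘ₗ ρ (tau x.1 x.2)⁻¹

section

variable (h2 : (2 : F) ≠ 0) (hα : α ≠ 0)

include h2 hα

theorem blockMap_line (L : U →ₗ[ℂ] U') {x : X} (hx : x 0 = 1) {z : U} (hz : z ∈ wt ρ (lineT α x)) :
    blockMap ρ ρ' α L z = ρ' (tau x hx) (pM ρ' α (L (ρ (tau x hx)⁻¹ z))) := by
  rw [blockMap, LinearMap.sum_apply, Finset.sum_eq_single ⟨x, hx⟩]
  · simp only [LinearMap.comp_apply]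
    rw [show pM ρ α (ρ (tau x hx)⁻¹ z) = ρ (tau x hx)⁻¹ z from prW_self ρ (by
      rw [← congr_lineT_self α x hx]; exact tau_inv_wt ρ hx hz)]
  · rintro ⟨y, hy⟩ - hne
    have hne' : congr' (lineT α x) (shift y hy) ≠ lineT α (e₀ F m) := fun h => hne (Subtype.ext (by
      rw [congr_lineT_shift, hx, one_smul] at h
      have := lineT_inj hα (by simp [e₀, hx, hy]) (by simp [e₀]) h
      linear_combination -this))
    simp only [LinearMap.comp_apply]
    rw [show pM ρ α (ρ (tau y hy)⁻¹ z) = 0 from prW_ne ρ h2 (lineT_symm α _)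
      (isSymm_congr' (lineT_symm α x) _) hne' (tau_inv_wt ρ hy hz), map_zero, map_zero, map_zero]
  · exact fun h => absurd (Finset.mem_univ _) h

theorem blockMap_off (L : U →ₗ[ℂ] U') {T : M₁} (hT : T.IsSymm) (h00 : T 0 0 ≠ α) {z : U}
    (hz : z ∈ wt ρ T) : blockMap ρ ρ' α L z = 0 := by
  rw [blockMap, LinearMap.sum_apply]
  refine Finset.sum_eq_zero fun y _ => ?_
  simp only [LinearMap.comp_apply]
  rw [show pM ρ α (ρ (tau y.1 y.2)⁻¹ z) = 0 from prW_ne ρ h2 (lineT_symm α _) (isSymm_congr' hT _)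
    (fun h => h00 (by
      have := congrFun (congrFun h 0) 0
      rwa [congr_00, lineT_00 α (by simp [e₀])] at this)) (tau_inv_wt ρ y.2 hz), map_zero, map_zero,
    map_zero]

theorem blockMap_base (L : U →ₗ[ℂ] U') {z : U} (hz : z ∈ wt ρ (lineT α (e₀ F m))) :
    blockMap ρ ρ' α L z = pM ρ' α (L z) := by
  rw [blockMap_line ρ ρ' α h2 hα L (by simp [e₀]) hz, tau_e₀, inv_one, map_one, map_one]
  rfl

theorem exists_line (hlow : LowRep ρ) {T : M₁} (hT : T.IsSymm) (h00 : T 0 0 = α) {z : U}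
    (hz : z ∈ wt ρ T) (hz0 : z ≠ 0) : ∃ (x : X) (_ : x 0 = 1), T = lineT α x := by
  obtain ⟨c, y, rfl⟩ := hlow T hT ((Submodule.ne_bot_iff _).mpr ⟨z, hz, hz0⟩)
  simp only [Matrix.smul_apply, vecMulVec_apply, smul_eq_mul] at h00
  have hy : y 0 ≠ 0 := fun h => hα (by rw [← h00, h]; ring)
  refine ⟨(y 0)⁻¹ • y, by simp [hy], ?_⟩
  ext i j
  simp [lineT, vecMulVec_apply, ← h00]
  field_simp

/-- Extensionality for maps on the block. -/
theorem ext_block (hlow : LowRep ρ) {f g : U →ₗ[ℂ] U'}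
    (hoff : ∀ T : M₁, T.IsSymm → T 0 0 ≠ α → ∀ z ∈ wt ρ T, f z = g z)
    (hon : ∀ (x : X), x 0 = 1 → ∀ z ∈ wt ρ (lineT α x), f z = g z) : f = g :=
  ext_wt ρ h2 fun T hT z hz => by
    by_cases h00 : T 0 0 = α
    · by_cases hz0 : z = 0
      · simp [hz0]
      obtain ⟨x, hx, rfl⟩ := exists_line ρ α h2 hα hlow hT h00 hz hz0
      exact hon x hx z hz
    · exact hoff T hT h00 z hz

theorem blockMap_prV (hlow : LowRep ρ) (L : U →ₗ[ℂ] U') :
    blockMap ρ ρ' α L ∘ₗ prV ρ α (eV F m) = blockMap ρ ρ' α L := by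
  refine ext_block ρ α h2 hα hlow (fun T hT h00 z hz => ?_) fun x hx z hz => ?_
  · rw [LinearMap.comp_apply, prV_eV_wt ρ α hz, if_neg h00, zero_smul, map_zero,
      blockMap_off ρ ρ' α h2 hα L hT h00 hz]
  · rw [LinearMap.comp_apply, prV_eV_wt ρ α hz, if_pos (lineT_00 α hx), one_smul]

theorem blockMap_unip (hlow : LowRep ρ) (L : U →ₗ[ℂ] U') (S : SymM F (m + 1)) :
    ρ' (unip S) ∘ₗ blockMap ρ ρ' α L = blockMap ρ ρ' α L ∘ₗ ρ (unip S) := by
  refine ext_block ρ α h2 hα hlow (fun T hT h00 z hz => ?_) fun x hx z hz => ?_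
  · rw [LinearMap.comp_apply, LinearMap.comp_apply, (mem_wt ρ).mp hz, map_smul,
      blockMap_off ρ ρ' α h2 hα L hT h00 hz, map_zero, smul_zero]
  · rw [LinearMap.comp_apply, LinearMap.comp_apply, (mem_wt ρ).mp hz, map_smul,
      blockMap_line ρ ρ' α h2 hα L hx hz,
      (mem_wt ρ').mp (tau_wt ρ' α hx (pM_mem ρ' α _))]

theorem blockMap_tau (hlow : LowRep ρ) (L : U →ₗ[ℂ] U') (y : X) (hy : y 0 = 1) :
    ρ' (tau y hy) ∘ₗ blockMap ρ ρ' α L = blockMap ρ ρ' α L ∘ₗ ρ (tau y hy) := by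
  refine ext_block ρ α h2 hα hlow (fun T hT h00 z hz => ?_) fun x hx z hz => ?_
  · rw [LinearMap.comp_apply, LinearMap.comp_apply, blockMap_off ρ ρ' α h2 hα L hT h00 hz, map_zero]
    refine (blockMap_off ρ ρ' α h2 hα L (isSymm_congr' hT _) ?_ (levi_wt ρ (shift y hy) hz)).symm
    intro h
    apply h00
    have := congr_00 (congr' T (shift y hy)⁻¹) y hy
    rw [← congr'_mul, inv_mul_cancel, congr'_one] at this
    rw [this, h]
  · set x' := y + x - e₀ F m with hx'
    have hx0 : x' 0 = 1 := by simp [hx', e₀, hx, hy]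
    have hmem : ρ (tau y hy) z ∈ wt ρ (lineT α x') := by
      have h1 := tau_wt ρ α hx0 (show ρ (tau x hx)⁻¹ z ∈ wt ρ (lineT α (e₀ F m)) by
        rw [← congr_lineT_self α x hx]; exact tau_inv_wt ρ hx hz)
      rwa [show tau x' hx0 = tau y hy * tau x hx from (tau_mul y x hy hx).symm, rep_mul, rep_inv'] at h1
    rw [LinearMap.comp_apply, LinearMap.comp_apply, blockMap_line ρ ρ' α h2 hα L hx hz,
      blockMap_line ρ ρ' α h2 hα L hx0 hmem, ← rep_mul ρ', ← rep_mul ρ,
      show tau x' hx0 = tau y hy * tau x hx from (tau_mul y x hy hx).symm, _root_.mul_inv_rev, mul_assoc,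
      inv_mul_cancel, mul_one]

theorem blockMap_inH (hlow : LowRep ρ) (L : U →ₗ[ℂ] U') {h : G} (hh : InH h) :
    ρ' h ∘ₗ blockMap ρ ρ' α L = blockMap ρ ρ' α L ∘ₗ ρ h := by
  obtain ⟨S, x, hx, -, rfl, -⟩ := hh.factor
  refine LinearMap.ext fun z => ?_
  have h1 := LinearMap.congr_fun (blockMap_unip ρ ρ' α h2 hα hlow L S) (ρ (tau x hx) z)
  have h3 := LinearMap.congr_fun (blockMap_tau ρ ρ' α h2 hα hlow L x hx) z
  simp only [LinearMap.comp_apply] at h1 h3 ⊢
  rw [rep_mul, rep_mul, h3, h1]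

theorem base_of_border (hlow' : LowRep ρ') {w : U'}
    (hw : ∀ S : SymM F (m + 1), Border S → ρ' (unip S) w = trChar (lineT α (e₀ F m)) S • w) :
    pM ρ' α w = w := by
  have key : ∀ ψ : AddChar (SymM F (m + 1)) ℂ, ψ ≠ trChar (lineT α (e₀ F m)) →
      projL ρ' ⇑(unip : AddChar (SymM F (m + 1)) G) ψ w = 0 := by
    intro ψ hψ
    by_contra hne
    obtain ⟨T, rfl⟩ := exists_trChar h2 ψ
    have hm' := prW_mem ρ' T.1 w
    set u := prW ρ' T.1 w
    have heq : ∀ S : SymM F (m + 1), Border S →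
        RankOne.psi F (Matrix.trace (T.1 * S.1)) = RankOne.psi F (Matrix.trace (lineT α (e₀ F m) * S.1)) := by
      intro S hS
      have h1 : ρ' (unip S) u = trChar (lineT α (e₀ F m)) S • u := by
        have := LinearMap.congr_fun (projL_conj ρ' (T := ⇑(unip : AddChar (SymM F (m + 1)) G))
          (T' := ⇑(unip : AddChar (SymM F (m + 1)) G)) (g := unip S) (fun a => by
            rw [← unip_add, add_comm S a, unip_add, mul_inv_cancel_right]) (trChar T.1)) w
        simp only [LinearMap.comp_apply, hw S hS, map_smul] at this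
        exact this
      rw [(mem_wt ρ').mp hm' S] at h1
      exact smul_left_injective ℂ hne h1
    have hsT : (T.1)ᵀ = T.1 := T.2
    have hb : ∀ j, T.1 0 j = if j = 0 then α else 0 := by
      intro j
      refine mul_left_cancel₀ h2 (psi_inj fun c => ?_)
      let S : SymM F (m + 1) := ⟨Matrix.single 0 j c + Matrix.single j 0 c, by
        show (_ : M₁)ᵀ = _
        rw [transpose_add, transpose_single, transpose_single]; exact add_comm _ _⟩
      have hS : Border S := fun i k hi hk => by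
        simp [S, Matrix.single_apply, hi.symm, hk.symm]
      have htr : ∀ R : M₁, Rᵀ = R → Matrix.trace (R * S.1) = 2 * R 0 j * c := fun R hR => by
        show Matrix.trace (R * (Matrix.single 0 j c + Matrix.single j 0 c)) = _
        rw [Matrix.mul_add, Matrix.trace_add, Matrix.trace_mul_single, Matrix.trace_mul_single,
          show R j 0 = R 0 j from congrFun (congrFun hR 0) j]
        simp only [op_smul_eq_smul, smul_eq_mul]
        ring
      have := heq S hS
      rw [htr _ hsT, htr _ (lineT_symm α _)] at this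
      rw [this]
      simp [lineT, vecMulVec_apply, e₀, Pi.single_apply]
    obtain ⟨x, hx, hTx⟩ := exists_line ρ' α h2 hα hlow' T.2 (by simpa using hb 0) hm' hne
    refine hψ ?_
    rw [hTx]
    suffices x = e₀ F m by rw [this]
    refine funext fun j => ?_
    have := hb j
    rw [hTx] at this
    simp only [lineT, Matrix.smul_apply, vecMulVec_apply, hx, one_mul, smul_eq_mul] at this
    by_cases hj : j = 0
    · subst hj; simp [e₀, hx]
    · rw [if_neg hj] at this
      simpa [e₀, hj] using (mul_eq_zero.mp this).resolve_left hα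
  have h := projL_sum ρ' (T := ⇑(unip : AddChar (SymM F (m + 1)) G)) unip_add w
  rwa [Finset.sum_eq_single (trChar (lineT α (e₀ F m))) (fun ψ _ hψ => key ψ hψ)
    (fun h => absurd (Finset.mem_univ _) h)] at h

/-- An equivariant map of blocks is the block map of itself. -/
theorem blockMap_eq (hlow : LowRep ρ) (hlow' : LowRep ρ') {Y : U →ₗ[ℂ] U'}
    (hY : ∀ h : G, InH h → ρ' h ∘ₗ Y = Y ∘ₗ ρ h) (hYP : Y ∘ₗ prV ρ α (eV F m) = Y) :
    blockMap ρ ρ' α Y = Y := by
  refine ext_block ρ α h2 hα hlow (fun T hT h00 z hz => ?_) fun x hx z hz => ?_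
  · conv_rhs => rw [← hYP]
    rw [LinearMap.comp_apply, prV_eV_wt ρ α hz, if_neg h00, zero_smul, map_zero,
      blockMap_off ρ ρ' α h2 hα Y hT h00 hz]
  · have hz0 : ρ (tau x hx)⁻¹ z ∈ wt ρ (lineT α (e₀ F m)) := by
      rw [← congr_lineT_self α x hx]; exact tau_inv_wt ρ hx hz
    rw [blockMap_line ρ ρ' α h2 hα Y hx hz, base_of_border ρ' α h2 hα hlow' (fun S hS => by
      have := LinearMap.congr_fun (hY _ (inH_unip hS)) (ρ (tau x hx)⁻¹ z)
      simp only [LinearMap.comp_apply] at this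
      rw [this, (mem_wt ρ).mp hz0, map_smul])]
    have := LinearMap.congr_fun (hY _ (inH_tau x hx)) (ρ (tau x hx)⁻¹ z)
    simp only [LinearMap.comp_apply, rep_inv'] at this
    exact this

/-- The block maps commute with the stabiliser of the vector. -/
theorem blockMap_stab (hm : 1 ≤ m) (hlow : LowRep ρ) (hlow' : LowRep ρ') {k : G} (hk : k ∈ Stab F m)
    (L : U →ₗ[ℂ] U') (z : U) : ρ' k (blockMap ρ ρ' α L z) = blockMap ρ ρ' α L (ρ k z) := by
  let N : Subgroup G :=
    { carrier := {g | g ∈ Stab F m ∧ ∀ L z, ρ' g (blockMap ρ ρ' α L z) = blockMap ρ ρ' α L (ρ g z)}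
      one_mem' := ⟨one_mem _, fun L z => by rw [map_one, map_one]; rfl⟩
      mul_mem' := fun {a b} ha hb => ⟨mul_mem ha.1 hb.1, fun L z => by
        rw [rep_mul, hb.2, ha.2, rep_mul]⟩
      inv_mem' := fun {a} ha => ⟨inv_mem ha.1, fun L z => by
        have := ha.2 L (ρ a⁻¹ z)
        rw [rep_inv'] at this
        rw [← this, rep_inv]⟩ }
  refine ((stab_le hm N (fun S => ?_) (fun x hx => ?_) (fun k hk g hg => ?_)) hk).2 L z
  · exact ⟨by show app _ _ = _; rw [eV, app_unip, mulVec_zero, add_zero],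
      fun L z => LinearMap.congr_fun (blockMap_unip ρ ρ' α h2 hα hlow L S) z⟩
  · exact ⟨(inH_tau x hx).1, fun L z => LinearMap.congr_fun (blockMap_tau ρ ρ' α h2 hα hlow L x hx) z⟩
  · refine ⟨mul_mem (mul_mem hk hg.1) (inv_mem hk), fun L z => ?_⟩
    set Y := ρ' k⁻¹ ∘ₗ blockMap ρ ρ' α L ∘ₗ ρ k with hY
    have hYX : blockMap ρ ρ' α Y = Y := by
      refine blockMap_eq ρ ρ' α h2 hα hlow hlow' (fun h hh => LinearMap.ext fun w => ?_)
        (LinearMap.ext fun w => ?_)
      · have hh' : InH (k * h * k⁻¹) := by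
          have := hh.conj (inv_mem hk); rwa [inv_inv] at this
        have := LinearMap.congr_fun (blockMap_inH ρ ρ' α h2 hα hlow L hh') (ρ k w)
        simp only [hY, LinearMap.comp_apply, ← rep_mul, inv_mul_cancel_right] at this ⊢
        rw [← this, ← rep_mul ρ']
        group
      · simp only [hY, LinearMap.comp_apply]
        rw [prV_conj_apply, mem_Stab.mp hk]
        exact congrArg (ρ' k⁻¹) (LinearMap.congr_fun (blockMap_prV ρ ρ' α h2 hα hlow L) (ρ k w))
    have := hg.2 Y (ρ k⁻¹ z)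
    rw [hYX] at this
    simp only [hY, LinearMap.comp_apply, rep_inv'] at this
    have h' := congrArg (ρ' k) this
    rw [rep_inv'] at h'
    rw [rep_mul, rep_mul, h', ← rep_mul ρ, ← rep_mul ρ]

end

end CfsgLib.SpWeilGap
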