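import Cfsg.Agent.Lib.SpWeilGap.Block

/-!
Two representations of small rank sharing a weight of rank one and the central sign have a nonzero
intertwiner: sum the transports of a map of blocks over all vectors.
-/

set_option autoImplicit false
set_option linter.unusedSectionVars false

namespace CfsgLib.SpWeilGap

open Matrix Module CfsgLib.SpMinDegree CfsgLib.SUMinDegree CfsgLib.Classical.SympTrans Cfsg
open scoped MatrixGroups

variable {F : Type*} [Field F] [Fintype F] [DecidableEq F] {m : ℕ}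

local notation "X" => (Fin (m + 1) → F)
local notation "V" => (Fin (m + 1) ⊕ Fin (m + 1) → F)
local notation "G" => Matrix.symplecticGroup (Fin (m + 1)) F
local notation "ω" => sympForm (m + 1) F
local notation "SymM" => CfsgLib.SpMinDegree.Sym
local notation "M₁" => Matrix (Fin (m + 1)) (Fin (m + 1)) F

variable (F m) in
/-- The negation. -/
def negI : G := leviS (-1 : GL (Fin (m + 1)) F)

theorem app_negI (v : V) : app (negI F m) v = -v := by
  conv_lhs => rw [negI, ← vec_halves v, app_leviS]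
  refine ext_halves ?_ ?_ <;> funext i <;>
    simp [vec, fstV, sndV, neg_mulVec]

theorem congr_lineT (α : F) (y : X) (A : GL (Fin (m + 1)) F) :
    congr' (lineT α y) A = lineT α (y ᵥ* (A : M₁)) := by
  rw [lineT, lineT, congr', Matrix.mul_smul, Matrix.smul_mul, mul_vecMulVec, vecMulVec_mul, mulVec_transpose]

theorem lineT_neg (α : F) (y : X) : lineT α (-y) = lineT α y := by
  ext i j; simp [lineT, vecMulVec_apply]

theorem dot_e₀ (y : X) : y ⬝ᵥ e₀ F m = y 0 := by simp [e₀]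

/-- The transvection moving the first coordinate vector along `a`. -/
def lowU (a : X) (ha : a 0 = 0) : GL (Fin (m + 1)) F where
  val := 1 + vecMulVec a (e₀ F m)
  inv := 1 - vecMulVec a (e₀ F m)
  val_inv := by
    have h : e₀ F m ⬝ᵥ a = 0 := by rw [dotProduct_comm, dot_e₀, ha]
    rw [mul_sub, add_mul, add_mul, one_mul, mul_one, one_mul, vecMulVec_mul_vecMulVec, h]
    simp
  inv_val := by
    have h : e₀ F m ⬝ᵥ a = 0 := by rw [dotProduct_comm, dot_e₀, ha]
    rw [mul_add, sub_mul, sub_mul, one_mul, mul_one, one_mul, vecMulVec_mul_vecMulVec, h]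
    simp

theorem e₀_lowU (a : X) (ha : a 0 = 0) : e₀ F m ᵥ* (lowU a ha : M₁) = e₀ F m := by
  show e₀ F m ᵥ* (1 + vecMulVec a (e₀ F m)) = _
  rw [vecMul_add, vecMul_one, vecMul_vecMulVec, dotProduct_comm, dot_e₀, ha, zero_smul, add_zero]

variable (F m) in
/-- Negation off the first coordinate. -/
def dneg : GL (Fin (m + 1)) F where
  val := Matrix.diagonal fun i => if i = 0 then 1 else -1
  inv := Matrix.diagonal fun i => if i = 0 then 1 else -1
  val_inv := by rw [diagonal_mul_diagonal, ← diagonal_one]; congr 1; funext i; split_ifs <;> ring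
  inv_val := by rw [diagonal_mul_diagonal, ← diagonal_one]; congr 1; funext i; split_ifs <;> ring

theorem dneg_lowU (a : X) (ha : a 0 = 0) :
    dneg F m * lowU a ha * (dneg F m)⁻¹ = lowU (-a) (by simp [ha]) := by
  refine Units.ext ?_
  show Matrix.diagonal _ * (1 + vecMulVec a (e₀ F m)) * Matrix.diagonal _ = 1 + vecMulVec (-a) (e₀ F m)
  rw [mul_add, add_mul, mul_one, diagonal_mul_diagonal, mul_vecMulVec, vecMulVec_mul]
  congr 1
  · rw [← diagonal_one]; congr 1; funext i; split_ifs <;> ring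
  · congr 1 <;> funext i <;>
      simp [mulVec_diagonal, vecMul_diagonal, e₀, Pi.single_apply] <;> intro h <;> simp [h, ha]

theorem dneg_stab : (leviS (dneg F m) : G) ∈ Stab F m := by
  show app _ _ = _
  rw [eV, app_leviS]
  congr 1
  · funext i
    show (Matrix.diagonal _ *ᵥ e₀ F m) i = _
    simp [mulVec_diagonal, e₀, Pi.single_apply]
    split_ifs <;> rfl
  · rw [mulVec_zero]

variable {U : Type*} [AddCommGroup U] [Module ℂ U]
  (ρ : Representation ℂ ↥(Matrix.symplecticGroup (Fin (m + 1)) F) U)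
variable {U' : Type*} [AddCommGroup U'] [Module ℂ U']
  (ρ' : Representation ℂ ↥(Matrix.symplecticGroup (Fin (m + 1)) F) U')
variable (α : F)

theorem levi_M {B : GL (Fin (m + 1)) F} (hB : congr' (lineT α (e₀ F m)) B = lineT α (e₀ F m)) {z : U}
    (hz : z ∈ wt ρ (lineT α (e₀ F m))) : ρ (leviS B) z ∈ wt ρ (lineT α (e₀ F m)) := by
  have h1 : congr' (lineT α (e₀ F m)) B⁻¹ = lineT α (e₀ F m) := by
    conv_lhs => arg 1; rw [← hB]
    rw [← congr'_mul, mul_inv_cancel, congr'_one]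
  have := levi_wt ρ B hz
  rwa [h1] at this

section

variable (h2 : (2 : F) ≠ 0) (hα : α ≠ 0) (hm : 1 ≤ m)

include h2 hα hm

theorem dneg_scalar (hlow : LowRep ρ) :
    ∃ c : ℂ, ∀ z ∈ wt ρ (lineT α (e₀ F m)), ρ (leviS (dneg F m)) z = c • z := by
  classical
  set M := wt ρ (lineT α (e₀ F m))
  by_cases hM : M = ⊥
  · exact ⟨0, fun z hz => by rw [hM, Submodule.mem_bot] at hz; simp [hz]⟩
  obtain ⟨z₀, hz₀, hne⟩ := Submodule.exists_mem_ne_zero_of_ne_bot hM
  obtain ⟨φ, hφ⟩ := Module.Projective.exists_dual_ne_zero ℂ hne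
  have hd : congr' (lineT α (e₀ F m)) (dneg F m) = lineT α (e₀ F m) := by
    rw [congr_lineT]
    congr 1
    show e₀ F m ᵥ* Matrix.diagonal _ = _
    funext i
    simp [vecMul_diagonal, e₀, Pi.single_apply]
    intro h; simp [h]
  refine ⟨φ (ρ (leviS (dneg F m)) z₀) / φ z₀, fun z hz => ?_⟩
  let L : U →ₗ[ℂ] U := (φ.smulRight z)
  have h := blockMap_stab ρ ρ α h2 hα hm hlow hlow dneg_stab L z₀
  rw [blockMap_base ρ ρ α h2 hα L hz₀, blockMap_base ρ ρ α h2 hα L (levi_M ρ α hd hz₀)] at h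
  simp only [L, LinearMap.smulRight_apply, map_smul, show pM ρ α z = z from prW_self ρ hz] at h
  rw [div_eq_inv_mul, mul_smul, ← h, smul_smul, inv_mul_cancel₀ hφ, one_smul]

theorem lowU_fix (hlow : LowRep ρ) (a : X) (ha : a 0 = 0) {z : U}
    (hz : z ∈ wt ρ (lineT α (e₀ F m))) : ρ (leviS (lowU a ha)) z = z := by
  obtain ⟨c, hc⟩ := dneg_scalar ρ α h2 hα hm hlow
  have key : ∀ (b : X) (hb : b 0 = 0), ∀ w ∈ wt ρ (lineT α (e₀ F m)),
      ρ (leviS (lowU (-b) (by simp [hb]))) w = ρ (leviS (lowU b hb)) w := by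
    intro b hb w hw
    have hu : congr' (lineT α (e₀ F m)) (lowU b hb) = lineT α (e₀ F m) := by rw [congr_lineT, e₀_lowU]
    have hu' : congr' (lineT α (e₀ F m)) (lowU (-b) (by simp [hb])) = lineT α (e₀ F m) := by
      rw [congr_lineT, e₀_lowU]
    have h1 : ρ (leviS (lowU (-b) (by simp [hb]))) (ρ (leviS (dneg F m)) w) =
        ρ (leviS (dneg F m)) (ρ (leviS (lowU b hb)) w) := by
      rw [← rep_mul, ← rep_mul, ← leviS_mul, ← leviS_mul, ← dneg_lowU b hb, inv_mul_cancel_right]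
    rw [hc w hw, map_smul, hc _ (levi_M ρ α hu hw)] at h1
    by_cases hc0 : c = 0
    · have : w = 0 := by
        have h0 := hc w hw
        rw [hc0, zero_smul] at h0
        rw [← rep_inv ρ (leviS (dneg F m)) w, h0, map_zero]
      simp [this]
    · exact smul_right_injective U hc0 h1
  set b := (2 : F)⁻¹ • a
  have hb : b 0 = 0 := by simp [b, ha]
  have h := key b hb z hz
  have h' : ρ (leviS (lowU b hb)) (ρ (leviS (lowU b hb)) z) = z := by
    conv_lhs => arg 2; rw [← h]
    rw [← rep_mul, ← leviS_mul, show lowU b hb * lowU (-b) (by simp [hb]) = 1 from Units.ext (by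
      show (1 + vecMulVec b (e₀ F m)) * (1 + vecMulVec (-b) (e₀ F m)) = 1
      rw [mul_add, add_mul, add_mul, one_mul, mul_one, one_mul, vecMulVec_mul_vecMulVec,
        show e₀ F m ⬝ᵥ -b = 0 by rw [dotProduct_comm, dot_e₀]; simp [hb]]
      simp [neg_vecMulVec]), leviS_one, map_one]
    rfl
  rw [← rep_mul, ← leviS_mul] at h'
  rwa [show lowU b hb * lowU b hb = lowU a ha from Units.ext (by
    show (1 + vecMulVec b (e₀ F m)) * (1 + vecMulVec b (e₀ F m)) = 1 + vecMulVec a (e₀ F m)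
    rw [mul_add, add_mul, add_mul, one_mul, mul_one, one_mul, vecMulVec_mul_vecMulVec,
      show e₀ F m ⬝ᵥ b = 0 by rw [dotProduct_comm, dot_e₀, hb], zero_smul, vecMulVec_zero, add_zero,
      add_assoc, ← add_vecMulVec, show b + b = a by
        show (2 : F)⁻¹ • a + (2 : F)⁻¹ • a = a
        rw [← add_smul, ← two_mul, mul_inv_cancel₀ h2, one_smul]])] at h'

variable (hlow : LowRep ρ) (hlow' : LowRep ρ')
  (hε : ∃ ε : ℂ, ε ≠ 0 ∧ (∀ z, ρ (negI F m) z = ε • z) ∧ ∀ z, ρ' (negI F m) z = ε • z)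

include hlow hlow' hε

theorem levi_block (L : U →ₗ[ℂ] U') {B : GL (Fin (m + 1)) F}
    (hB : congr' (lineT α (e₀ F m)) B = lineT α (e₀ F m)) {z : U} (hz : z ∈ wt ρ (lineT α (e₀ F m))) :
    ρ' (leviS B) (pM ρ' α (L z)) = pM ρ' α (L (ρ (leviS B) z)) := by
  -- the case of a first row equal to the first coordinate vector
  have main : ∀ (B : GL (Fin (m + 1)) F), e₀ F m ᵥ* (B : M₁) = e₀ F m → ∀ z ∈ wt ρ (lineT α (e₀ F m)),
      ρ' (leviS B) (pM ρ' α (L z)) = pM ρ' α (L (ρ (leviS B) z)) := by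
    intro B hB z hz
    set a : X := (B : M₁) *ᵥ e₀ F m - e₀ F m with ha'
    have ha : a 0 = 0 := by
      have := congrFun hB 0
      simp only [vecMul, e₀, single_dotProduct, one_mul, Pi.single_eq_same] at this
      simp [ha', e₀, this]
    set B₁ := (lowU a ha)⁻¹ * B with hB1
    have hrow : e₀ F m ᵥ* (B₁ : M₁) = e₀ F m := by
      show e₀ F m ᵥ* ((1 - vecMulVec a (e₀ F m)) * (B : M₁)) = _
      rw [← vecMul_vecMul, vecMul_sub, vecMul_one, vecMul_vecMulVec, dotProduct_comm, dot_e₀, ha, zero_smul,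
        sub_zero, hB]
    have hst : (leviS B₁ : G) ∈ Stab F m := by
      show app _ _ = _
      rw [eV, app_leviS, mulVec_zero]
      congr 1
      show ((1 - vecMulVec a (e₀ F m)) * (B : M₁)) *ᵥ e₀ F m = _
      rw [← mulVec_mulVec, show (B : M₁) *ᵥ e₀ F m = e₀ F m + a by rw [ha']; abel, sub_mulVec, one_mulVec,
        vecMulVec_mulVec, dotProduct_add, dot_e₀, dotProduct_comm (e₀ F m) a, dot_e₀, ha]
      simp [e₀]
    have hB1M : congr' (lineT α (e₀ F m)) B₁ = lineT α (e₀ F m) := by rw [congr_lineT, hrow]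
    have hz1 := levi_M ρ α hB1M hz
    have h := blockMap_stab ρ ρ' α h2 hα hm hlow hlow' hst L z
    rw [blockMap_base ρ ρ' α h2 hα L hz, blockMap_base ρ ρ' α h2 hα L hz1] at h
    rw [show B = lowU a ha * B₁ by rw [hB1, mul_inv_cancel_left], leviS_mul, rep_mul, rep_mul, h,
      lowU_fix ρ α h2 hα hm hlow a ha hz1, lowU_fix ρ' α h2 hα hm hlow' a ha (pM_mem ρ' α _)]
  set r := e₀ F m ᵥ* (B : M₁) with hr
  rw [congr_lineT, ← hr] at hB
  have hrr : ∀ i, r 0 * r i = if i = 0 then 1 else 0 := fun i => by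
    have := congrFun (congrFun hB 0) i
    simp only [lineT, Matrix.smul_apply, vecMulVec_apply, smul_eq_mul] at this
    refine mul_left_cancel₀ hα (this.trans ?_)
    simp [e₀, Pi.single_apply]
  have h00 := hrr 0
  rw [if_pos rfl] at h00
  have hri : r = r 0 • e₀ F m := funext fun i => by
    by_cases hi : i = 0
    · subst hi; simp [e₀]
    · have := hrr i
      rw [if_neg hi] at this
      simp [e₀, hi, (mul_eq_zero.mp this).resolve_left (left_ne_zero_of_mul_eq_one h00)]
  rcases mul_self_eq_one_iff.mp h00 with h | h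
  · exact main B (by rw [← hr, hri, h, one_smul]) z hz
  · obtain ⟨ε, hε0, hε1, hε2⟩ := hε
    have h' := main (-B) (by rw [Units.val_neg, vecMul_neg, ← hr, hri, h, neg_one_smul, neg_neg]) z hz
    rw [show (-B : GL (Fin (m + 1)) F) = -1 * B by simp, leviS_mul, rep_mul, rep_mul, show (leviS (-1) : G) = negI F m from rfl,
      hε1, hε2, map_smul, map_smul] at h'
    exact smul_right_injective U' hε0 h'

end

/-- An element moving the first basis vector to `v`. -/
noncomputable def mover (v : V) : G :=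
  if h : v ≠ 0 then (exists_app_eq eV_ne h).choose else 1

theorem app_mover {v : V} (h : v ≠ 0) : app (mover v) (eV F m) = v := by
  rw [mover, dif_pos h]
  exact (exists_app_eq eV_ne h).choose_spec

/-- The transport of the block map to `v`. -/
noncomputable def trans (L : U →ₗ[ℂ] U') (v : V) : U →ₗ[ℂ] U' :=
  ρ' (mover v) ∘ₗ blockMap ρ ρ' α L ∘ₗ ρ (mover v)⁻¹

section

variable (h2 : (2 : F) ≠ 0) (hα : α ≠ 0) (hm : 1 ≤ m) (hlow : LowRep ρ) (hlow' : LowRep ρ')
  (hε : ∃ ε : ℂ, ε ≠ 0 ∧ (∀ z, ρ (negI F m) z = ε • z) ∧ ∀ z, ρ' (negI F m) z = ε • z)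

include h2 hα hm hlow hlow'

theorem trans_app (L : U →ₗ[ℂ] U') (g : G) (z : U) :
    trans ρ ρ' α L (app g (eV F m)) z = ρ' g (blockMap ρ ρ' α L (ρ g⁻¹ z)) := by
  set k := g⁻¹ * mover (app g (eV F m)) with hk
  have hkS : k ∈ Stab F m := by
    show app _ _ = _
    rw [hk, app_mul, app_mover (app_ne_zero g eV_ne), app_inv]
  have h := blockMap_stab ρ ρ' α h2 hα hm hlow hlow' hkS L (ρ (mover (app g (eV F m)))⁻¹ z)
  rw [← rep_mul ρ, show k * (mover (app g (eV F m)))⁻¹ = g⁻¹ by rw [hk, mul_inv_cancel_right]] at h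
  rw [← h, ← rep_mul ρ', hk, mul_inv_cancel_left]
  rfl

theorem trans_eV (L : U →ₗ[ℂ] U') (z : U) : trans ρ ρ' α L (eV F m) z = blockMap ρ ρ' α L z := by
  have h := trans_app ρ ρ' α h2 hα hm hlow hlow' L 1 z
  rwa [app_one, inv_one, map_one, map_one] at h

theorem trans_equiv (L : U →ₗ[ℂ] U') (g : G) {v : V} (hv : v ≠ 0) (z : U) :
    ρ' g (trans ρ ρ' α L v z) = trans ρ ρ' α L (app g v) (ρ g z) := by
  obtain ⟨k, rfl⟩ : ∃ k, app k (eV F m) = v := ⟨mover v, app_mover hv⟩
  rw [← app_mul, trans_app ρ ρ' α h2 hα hm hlow hlow', trans_app ρ ρ' α h2 hα hm hlow hlow', ← rep_mul ρ',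
    ← rep_mul ρ, show (g * k)⁻¹ * g = k⁻¹ by group]

theorem trans_prV (L : U →ₗ[ℂ] U') {v : V} (hv : v ≠ 0) (z : U) :
    trans ρ ρ' α L v (prV ρ α v z) = trans ρ ρ' α L v z := by
  obtain ⟨k, rfl⟩ : ∃ k, app k (eV F m) = v := ⟨mover v, app_mover hv⟩
  rw [trans_app ρ ρ' α h2 hα hm hlow hlow', trans_app ρ ρ' α h2 hα hm hlow hlow', prV_conj_apply,
    app_inv]
  exact congrArg (ρ' k) (LinearMap.congr_fun (blockMap_prV ρ ρ' α h2 hα hlow L) _)

theorem prV_trans (L : U →ₗ[ℂ] U') {v : V} (hv : v ≠ 0) (hve : ω (eV F m) v = 0) (z : U) :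
    prV ρ' α (eV F m) (trans ρ ρ' α L v z) = trans ρ ρ' α L v (prV ρ α (eV F m) z) := by
  simp only [prV, projL, LinearMap.smul_apply, LinearMap.sum_apply, map_smul, map_sum]
  congr 1
  refine Finset.sum_congr rfl fun c _ => ?_
  rw [trans_equiv ρ ρ' α h2 hα hm hlow hlow' L (T (eV F m) c) hv, app_T, f_swap, hve, neg_zero, mul_zero,
    zero_smul, add_zero]

include hε

theorem trans_neg (L : U →ₗ[ℂ] U') (z : U) :
    trans ρ ρ' α L (-eV F m) z = blockMap ρ ρ' α L z := by
  obtain ⟨ε, hε0, hε1, hε2⟩ := hε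
  have h := trans_equiv ρ ρ' α h2 hα hm hlow hlow' L (negI F m) eV_ne z
  rw [app_negI, hε2, hε1, map_smul, trans_eV ρ ρ' α h2 hα hm hlow hlow'] at h
  exact (smul_right_injective U' hε0 h).symm

/-- Two transports agree where both are supported. -/
theorem trans_compat (L : U →ₗ[ℂ] U') {v w : V} (hv : v ≠ 0) (hvw : ω v w = 0) {z : U}
    (hzv : z ∈ weight ρ (T v) (chi F α)) (hzw : z ∈ weight ρ (T w) (chi F α)) :
    trans ρ ρ' α L v z = trans ρ ρ' α L w z := by
  obtain ⟨g, rfl⟩ : ∃ k, app k (eV F m) = v := ⟨mover v, app_mover hv⟩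
  obtain ⟨w, rfl⟩ : ∃ w', app g w' = w := ⟨app g⁻¹ w, app_inv' g w⟩
  have hw0 : w ≠ 0 ∨ z = 0 := by
    by_cases h : w = 0
    · refine Or.inr ?_
      by_contra hz
      refine hα (psi_inj fun c => ?_)
      have := (mem_weight ρ _).mp hzw c
      rw [h, show app g (0 : V) = 0 from mulVec_zero _, T_zero', map_one] at this
      have h1 : (1 : ℂ) • z = chi F α c • z := by rw [one_smul]; exact this
      rw [zero_mul, AddChar.map_zero_eq_one]
      exact (smul_left_injective ℂ hz h1).symm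
    · exact Or.inl h
  rcases hw0 with hw | rfl
  swap
  · simp
  rw [f_app] at hvw
  have hzv' : ρ g⁻¹ z ∈ weight ρ (T (eV F m)) (chi F α) := (mem_weight ρ _).mpr fun c => by
    rw [← rep_mul, show T (eV F m) c * g⁻¹ = g⁻¹ * T (app g (eV F m)) c by rw [← conj_T]; group, rep_mul,
      (mem_weight ρ _).mp hzv, map_smul]
  have hzw' : ρ g⁻¹ z ∈ weight ρ (T w) (chi F α) := (mem_weight ρ _).mpr fun c => by
    rw [← rep_mul, show T w c * g⁻¹ = g⁻¹ * T (app g w) c by rw [← conj_T]; group, rep_mul,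
      (mem_weight ρ _).mp hzw, map_smul]
  suffices h : blockMap ρ ρ' α L (ρ g⁻¹ z) = trans ρ ρ' α L w (ρ g⁻¹ z) by
    have := trans_equiv ρ ρ' α h2 hα hm hlow hlow' L g hw (ρ g⁻¹ z)
    rw [rep_inv'] at this
    rw [trans_app ρ ρ' α h2 hα hm hlow hlow', h, this]
  generalize ρ g⁻¹ z = y at hzv' hzw' ⊢
  by_cases hdep : ∃ c : F, w = c • eV F m
  · obtain ⟨c, rfl⟩ := hdep
    by_cases hy : y = 0
    · simp [hy]
    have hc : c * c = 1 := by
      refine mul_left_cancel₀ hα (psi_inj fun d => ?_)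
      have h1 := (mem_weight ρ _).mp hzw' d
      rw [T_smul, (mem_weight ρ _).mp hzv'] at h1
      have h3 := smul_left_injective ℂ hy h1
      rw [mul_one]
      show RankOne.psi F _ = RankOne.psi F (α * d)
      have h4 : RankOne.psi F (α * (c * c * d)) = RankOne.psi F (α * d) := h3
      rw [← h4, mul_assoc α]
    rcases mul_self_eq_one_iff.mp hc with rfl | rfl
    · rw [one_smul, trans_eV ρ ρ' α h2 hα hm hlow hlow']
    · rw [neg_one_smul, trans_neg ρ ρ' α h2 hα hm hlow hlow' hε]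
  push Not at hdep
  -- move the second vector to the second coordinate vector
  set i₁ : Fin (m + 1) := ⟨1, by omega⟩ with hi₁
  obtain ⟨k, hk, rfl⟩ := exists_stab_move hm hvw hdep
  set e1 : V := vec (Pi.single i₁ 1) 0 with he1
  have he1ne : e1 ≠ 0 := fun h => by simpa [he1, vec] using congrFun h (.inl i₁)
  have hy1 : ρ k⁻¹ y ∈ weight ρ (T (eV F m)) (chi F α) := (mem_weight ρ _).mpr fun c => by
    rw [← rep_mul, show T (eV F m) c * k⁻¹ = k⁻¹ * T (app k (eV F m)) c by rw [← conj_T]; group, rep_mul,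
      mem_Stab.mp hk, (mem_weight ρ _).mp hzv', map_smul]
  have hy2 : ρ k⁻¹ y ∈ weight ρ (T e1) (chi F α) := (mem_weight ρ _).mpr fun c => by
    rw [← rep_mul, show T e1 c * k⁻¹ = k⁻¹ * T (app k e1) c by rw [← conj_T]; group, rep_mul,
      (mem_weight ρ _).mp hzw', map_smul]
  suffices h : blockMap ρ ρ' α L ∘ₗ prV ρ α (eV F m) ∘ₗ prV ρ α e1 =
      trans ρ ρ' α L e1 ∘ₗ prV ρ α (eV F m) ∘ₗ prV ρ α e1 by
    have h' := LinearMap.congr_fun h (ρ k⁻¹ y)
    simp only [LinearMap.comp_apply] at h'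
    rw [prV_self ρ α hy2, prV_self ρ α hy1] at h'
    have h3 := congrArg (ρ' k) h'
    rw [blockMap_stab ρ ρ' α h2 hα hm hlow hlow' hk, trans_equiv ρ ρ' α h2 hα hm hlow hlow' L k he1ne,
      rep_inv'] at h3
    exact h3
  have hpr1 : ∀ (T₀ : M₁), ∀ z ∈ wt ρ T₀, prV ρ α e1 z = (if T₀ i₁ i₁ = α then (1 : ℂ) else 0) • z := by
    intro T₀ z hz
    classical
    have hφ : z ∈ weight ρ (T e1) (chi F (T₀ i₁ i₁)) := (mem_weight ρ _).mpr fun c => by
      rw [he1, T_vec, (mem_wt ρ).mp hz]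
      congr 1
      show RankOne.psi F _ = RankOne.psi F _
      rw [trace_line]
      simp [Matrix.mulVec_single, mul_comm]
    rw [prV, projL_weight ρ hφ]
    congr 1
    by_cases h : T₀ i₁ i₁ = α
    · rw [if_pos h, if_pos (by rw [h])]
    · rw [if_neg h, if_neg fun e => h (chi_inj e)]
  refine ext_block ρ α h2 hα hlow (fun T₀ hT h00 z hz => ?_) fun x hx z hz => ?_
  · simp only [LinearMap.comp_apply, hpr1 T₀ z hz, map_smul, prV_eV_wt ρ α hz, if_neg h00]
    simp
  simp only [LinearMap.comp_apply, hpr1 _ z hz, map_smul, prV_eV_wt ρ α hz, if_pos (lineT_00 α hx),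
    one_smul]
  by_cases h11 : lineT α x i₁ i₁ = α
  swap
  · simp [h11]
  rw [if_pos h11, one_smul, one_smul]
  have hx1 : x i₁ * x i₁ = 1 := by
    simp only [lineT, Matrix.smul_apply, vecMulVec_apply, smul_eq_mul] at h11
    exact mul_left_cancel₀ hα (by rw [h11, mul_one])
  -- exchange the first two coordinates
  set σ : Equiv.Perm (Fin (m + 1)) := Equiv.swap 0 i₁
  let P : GL (Fin (m + 1)) F := Matrix.GeneralLinearGroup.mkOfDetNeZero (σ.permMatrix F) (by
    rw [Matrix.det_permutation]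
    rcases Int.units_eq_one_or (Equiv.Perm.sign σ) with h | h <;> simp [h])
  have hPe : app (leviS P : G) (eV F m) = e1 := by
    rw [eV, app_leviS, mulVec_zero, he1]
    congr 1
    show σ.permMatrix F *ᵥ e₀ F m = _
    funext i
    rw [Matrix.permMatrix_mulVec]
    simp only [Function.comp_apply, e₀, Pi.single_apply, σ]
    by_cases hi : i = i₁
    · subst hi; simp
    · rw [if_neg hi, if_neg]
      intro h
      exact hi (by rwa [Equiv.swap_apply_eq_iff, Equiv.swap_apply_left] at h)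
  set y' : X := fun i => x i₁ * x (σ i) with hy'
  have hy0 : y' 0 = 1 := by simp [hy', σ, hx1]
  have hP : congr' (lineT α x) P = lineT α y' := by
    ext i j
    rw [congr_lineT]
    show α • vecMulVec (x ᵥ* σ.permMatrix F) (x ᵥ* σ.permMatrix F) i j = α • vecMulVec y' y' i j
    simp only [Matrix.vecMul_permMatrix, vecMulVec_apply, hy', Function.comp_apply, σ, Equiv.symm_swap,
      smul_eq_mul]
    linear_combination -α * x (σ i) * x (σ j) * hx1
  have hP' : congr' (lineT α y') P⁻¹ = lineT α x := by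
    rw [← hP, ← congr'_mul, mul_inv_cancel, congr'_one]
  set B := (shift x hx)⁻¹ * P * shift y' hy0
  have hB : congr' (lineT α (e₀ F m)) B = lineT α (e₀ F m) := by
    simp only [B, congr'_mul, congr_lineT_inv, hP, congr_lineT_self]
  have hz' : ρ (leviS P : G)⁻¹ z ∈ wt ρ (lineT α y') := by rw [← hP]; exact levi_mem_wt ρ P hz
  set z₀ := ρ (tau y' hy0)⁻¹ (ρ (leviS P : G)⁻¹ z) with hz₀
  have hz0M : z₀ ∈ wt ρ (lineT α (e₀ F m)) := by
    rw [← congr_lineT_self α y' hy0]; exact tau_inv_wt ρ hy0 hz'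
  rw [← hPe, trans_app ρ ρ' α h2 hα hm hlow hlow', blockMap_line ρ ρ' α h2 hα L hx hz,
    blockMap_line ρ ρ' α h2 hα L hy0 hz', ← rep_mul ρ']
  have hs := levi_block ρ ρ' α h2 hα hm hlow hlow' hε L hB hz0M
  have hzB : ρ (leviS B) z₀ = ρ (tau x hx)⁻¹ z := by
    simp only [hz₀, ← rep_mul, B, leviS_mul, leviS_inv, tau]
    congr 1
    group
  rw [hzB] at hs
  rw [← hs, ← rep_mul ρ', show tau x hx * leviS B = leviS P * tau y' hy0 by
    simp only [B, leviS_mul, leviS_inv, tau]; group]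

end

end CfsgLib.SpWeilGap
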