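import Cfsg.Agent.Lib.SpWeilGap.Block
import Cfsg.Agent.Lib.SpMinDegree.Weil

/-!
The four Weil representations of `Sp(2n, F)`, `F` of odd order, in the model where the Siegel radical
is diagonal: their weights and irreducibility.
-/

set_option autoImplicit false
set_option linter.unusedSectionVars false

namespace CfsgLib.SpWeilGap

open Matrix Module CfsgLib.SpMinDegree CfsgLib.SUMinDegree CfsgLib.Classical.SympTrans Cfsg
open scoped MatrixGroups

variable {F : Type*} [Field F] [Fintype F] [DecidableEq F] {m : ℕ}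

local notation "X" => (Fin (m + 1) → F)
local notation "V" => (Fin (m + 1) ⊕ Fin (m + 1) → F)
local notation "G" => Matrix.symplecticGroup (Fin (m + 1)) F
local notation "ω" => sympForm (m + 1) F
local notation "SymM" => CfsgLib.SpMinDegree.Sym
local notation "M₁" => Matrix (Fin (m + 1)) (Fin (m + 1)) F
local notation "M₂" => Matrix (Fin (m + 1) ⊕ Fin (m + 1)) (Fin (m + 1) ⊕ Fin (m + 1)) F
local notation "Op" => Matrix (Fin (m + 1) → F) (Fin (m + 1) → F) ℂ

/-- The quadratic phase. -/
noncomputable def phase (R : M₁) (x : X) : ℂ := RankOne.psi F ((2 : F)⁻¹ * (x ⬝ᵥ (R *ᵥ x)))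

/-- The quadratic multiplication operator. -/
noncomputable def chirp (R : M₁) : Op := Matrix.diagonal (phase R)

theorem chirp_mem (R : M₁) : chirp R ∈ parCent F (m + 1) := by
  show chirp R * (par : Op) = (par : Op) * chirp R
  ext x y
  rw [chirp, diagonal_mul, mul_diagonal]
  show phase R x * (if y = -x then 1 else 0) = (if y = -x then 1 else 0) * phase R y
  split_ifs with h
  · subst h; simp [phase, mulVec_neg]
  · simp

/-- The quadratic multiplication operators, as a homomorphism. -/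
noncomputable def chirpM (R : M₁) : parCent F (m + 1) := ⟨chirp R, chirp_mem R⟩

theorem phase_add (R S : M₁) (x : X) : phase (R + S) x = phase R x * phase S x := by
  rw [phase, phase, phase, ← psi_add, add_mulVec, dotProduct_add, mul_add]

theorem phase_zero (x : X) : phase (0 : M₁) x = 1 := by simp [phase, psi_zero]

theorem chirpM_add (R S : M₁) : chirpM (R + S) = chirpM R * chirpM S := by
  refine Subtype.ext ?_
  show chirp (R + S) = chirp R * chirp S
  rw [chirp, chirp, chirp, diagonal_mul_diagonal]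
  exact congrArg _ (funext fun x => phase_add R S x)

theorem chirpM_zero : chirpM (0 : M₁) = 1 := by
  refine Subtype.ext ?_
  show chirp (0 : M₁) = (1 : Op)
  rw [chirp, show phase (0 : M₁) = fun _ : X => (1 : ℂ) from funext phase_zero, diagonal_one]

/-- The ratio of the two determinants of a chirp. -/
noncomputable def detRatio : AddChar (SymM F (m + 1)) ℂ where
  toFun S := LinearMap.det (res 1 (chirpM S.1)) / LinearMap.det (res (-1) (chirpM S.1))
  map_zero_eq_one' := by
    show LinearMap.det (res 1 (chirpM (0 : M₁))) / LinearMap.det (res (-1) (chirpM (0 : M₁))) = 1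
    rw [chirpM_zero, map_one, map_one, map_one, map_one, div_one]
  map_add_eq_mul' S S' := by
    show LinearMap.det (res 1 (chirpM (S.1 + S'.1))) / LinearMap.det (res (-1) (chirpM (S.1 + S'.1))) = _
    rw [chirpM_add, map_mul, map_mul, map_mul, map_mul, mul_div_mul_comm]

/-- The operator of a linear substitution. -/
noncomputable def subst (A : M₁) : Op := fun x y => if y = Aᵀ *ᵥ x then 1 else 0

theorem subst_mulVec (A : M₁) (f : X → ℂ) (x : X) : (subst A *ᵥ f) x = f (Aᵀ *ᵥ x) := by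
  simp [subst, mulVec, dotProduct]

theorem subst_mem (A : M₁) : subst A ∈ parCent F (m + 1) := by
  refine Matrix.ext_of_mulVec_single fun a => funext fun x => ?_
  rw [← mulVec_mulVec, ← mulVec_mulVec, subst_mulVec, par_mulVec, par_mulVec, subst_mulVec, mulVec_neg]

theorem subst_mul (A B : M₁) : subst A * subst B = subst (A * B) := by
  refine Matrix.ext_of_mulVec_single fun a => funext fun x => ?_
  rw [← mulVec_mulVec, subst_mulVec, subst_mulVec, subst_mulVec, transpose_mul, mulVec_mulVec]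

theorem subst_one : subst (1 : M₁) = 1 := by
  refine Matrix.ext_of_mulVec_single fun a => funext fun x => ?_
  rw [subst_mulVec, transpose_one, one_mulVec, one_mulVec]

theorem detRatio_congr (A : GL (Fin (m + 1)) F) (S : SymM F (m + 1)) :
    detRatio (symCongr A S) = detRatio S := by
  set P : parCent F (m + 1) := ⟨subst (A : M₁), subst_mem _⟩
  have hu : IsUnit (P : Op) := ⟨⟨subst (A : M₁), subst ((A⁻¹ : GL (Fin (m + 1)) F) : M₁),
    by rw [subst_mul, ← Units.val_mul, mul_inv_cancel, Units.val_one, subst_one],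
    by rw [subst_mul, ← Units.val_mul, inv_mul_cancel, Units.val_one, subst_one]⟩, rfl⟩
  have hcomm : P * chirpM S.1 = chirpM (symCongr A S).1 * P := by
    refine Subtype.ext (Matrix.ext_of_mulVec_single fun a => funext fun x => ?_)
    show ((subst (A : M₁) * chirp S.1) *ᵥ _) x = ((chirp _ * subst (A : M₁)) *ᵥ _) x
    rw [← mulVec_mulVec, ← mulVec_mulVec, subst_mulVec, chirp, chirp, mulVec_diagonal, mulVec_diagonal,
      subst_mulVec]
    congr 1
    rw [phase, phase]
    congr 2
    show _ = x ⬝ᵥ (((A : M₁) * S.1 * (A : M₁)ᵀ) *ᵥ x)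
    rw [← mulVec_mulVec, ← mulVec_mulVec, dotProduct_mulVec x (A : M₁), ← mulVec_transpose]
  have key : ∀ ε : ℂ, LinearMap.det (res ε (chirpM S.1)) =
      LinearMap.det (res ε (chirpM (symCongr A S).1)) := fun ε => by
    have h := congrArg (fun M => LinearMap.det (res ε M)) hcomm
    simp only [map_mul] at h
    rw [mul_comm] at h
    exact mul_right_cancel₀ (det_res_ne_zero P hu ε) h
  show LinearMap.det (res 1 (chirpM _)) / LinearMap.det (res (-1) (chirpM _)) =
    LinearMap.det (res 1 (chirpM _)) / LinearMap.det (res (-1) (chirpM _))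
  rw [key 1, key (-1)]

variable (h2 : (2 : F) ≠ 0)

include h2

theorem detRatio_one (hm : 1 ≤ m) (hq : Odd (Fintype.card F)) (S : SymM F (m + 1)) : detRatio S = 1 := by
  classical
  set f : AddChar (SymM F (m + 1)) ℂ := detRatio with hf
  have hpow : ∀ R : SymM F (m + 1), f R * f R = 1 → f R = 1 := fun R h => by
    have h0 : (Fintype.card F) • R = 0 := Subtype.ext (by
      show (Fintype.card F) • R.1 = 0
      ext i j
      simp)
    have h1 := f.map_nsmul_eq_pow (Fintype.card F) R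
    rw [h0, AddChar.map_zero_eq_one] at h1
    obtain ⟨k, hk⟩ := hq
    rw [hk, pow_succ, pow_mul, sq, h, one_pow, one_mul] at h1
    exact h1.symm
  let sym2 : M₁ → SymM F (m + 1) := fun M => ⟨M + Mᵀ, by
    show (M + Mᵀ)ᵀ = M + Mᵀ
    rw [transpose_add, transpose_transpose]; exact add_comm _ _⟩
  have hneg : ∀ (i j : Fin (m + 1)) (c : F), i ≠ j → f (sym2 (Matrix.single i j c)) = 1 := by
    intro i j c hij
    refine hpow _ ?_
    let d : X := fun k => if k = i then -1 else 1
    let D : GL (Fin (m + 1)) F := ⟨Matrix.diagonal d, Matrix.diagonal d,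
      by rw [diagonal_mul_diagonal, ← diagonal_one]; congr 1; funext k; by_cases hk : k = i <;> simp [d, hk],
      by rw [diagonal_mul_diagonal, ← diagonal_one]; congr 1; funext k; by_cases hk : k = i <;> simp [d, hk]⟩
    have hD : symCongr D (sym2 (Matrix.single i j c)) = -sym2 (Matrix.single i j c) := Subtype.ext (by
      show Matrix.diagonal d * (Matrix.single i j c + (Matrix.single i j c)ᵀ) * (Matrix.diagonal d)ᵀ =
        -(Matrix.single i j c + (Matrix.single i j c)ᵀ)
      rw [diagonal_transpose, transpose_single]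
      ext a b
      rw [mul_diagonal, diagonal_mul, Matrix.neg_apply, Matrix.add_apply]
      by_cases h1 : i = a ∧ j = b
      · obtain ⟨rfl, rfl⟩ := h1
        simp [d, hij, hij.symm]
      · by_cases h3 : j = a ∧ i = b
        · obtain ⟨rfl, rfl⟩ := h3
          simp [d, hij, hij.symm]
        · simp [h1, h3])
    have := detRatio_congr D (sym2 (Matrix.single i j c))
    rw [hD, ← hf] at this
    have h1 := f.map_add_eq_mul (sym2 (Matrix.single i j c)) (-sym2 (Matrix.single i j c))
    rw [add_neg_cancel, AddChar.map_zero_eq_one, this] at h1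
    exact h1.symm
  have hdiag : ∀ (j : Fin (m + 1)) (c : F), f (sym2 (Matrix.single j j c)) = 1 := by
    intro j c
    obtain ⟨i, hij⟩ : ∃ i : Fin (m + 1), i ≠ j := by
      have : Nontrivial (Fin (m + 1)) := by rw [Fin.nontrivial_iff_two_le]; omega
      exact exists_ne j
    let A : GL (Fin (m + 1)) F := Matrix.GeneralLinearGroup.mkOfDetNeZero (Matrix.transvection j i 1)
      (by rw [det_transvection_of_ne j i hij.symm]; exact one_ne_zero)
    have hA : symCongr A (sym2 (Matrix.single i i c)) = sym2 (Matrix.single i i c) + sym2 (Matrix.single j i c) +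
        sym2 (Matrix.single i j c) + sym2 (Matrix.single j j c) := Subtype.ext (by
      show Matrix.transvection j i 1 * (Matrix.single i i c + (Matrix.single i i c)ᵀ) *
          (Matrix.transvection j i 1)ᵀ =
        (Matrix.single i i c + (Matrix.single i i c)ᵀ) + (Matrix.single j i c + (Matrix.single j i c)ᵀ) +
          (Matrix.single i j c + (Matrix.single i j c)ᵀ) + (Matrix.single j j c + (Matrix.single j j c)ᵀ)
      simp only [Matrix.transvection, transpose_add, transpose_one, transpose_single, add_mul, mul_add,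
        one_mul, mul_one, single_mul_single_same, mul_one]
      abel)
    have := detRatio_congr A (sym2 (Matrix.single i i c))
    rw [hA, ← hf, AddChar.map_add_eq_mul, AddChar.map_add_eq_mul, AddChar.map_add_eq_mul,
      hneg j i c hij.symm, hneg i j c hij, mul_one, mul_one] at this
    exact mul_eq_left₀ (fun h => by
      have h1 := f.map_add_eq_mul (sym2 (Matrix.single i i c)) (-sym2 (Matrix.single i i c))
      rw [add_neg_cancel, AddChar.map_zero_eq_one, h, zero_mul] at h1
      exact one_ne_zero h1) |>.mp this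
  have hall : ∀ M : M₁, f (sym2 M) = 1 := fun M => by
    induction M using Matrix.induction_on with
    | h_add p q hp hq =>
      rw [show sym2 (p + q) = sym2 p + sym2 q from Subtype.ext (by
        show p + q + (p + q)ᵀ = (p + pᵀ) + (q + qᵀ)
        rw [transpose_add]; abel), AddChar.map_add_eq_mul, hp, hq, one_mul]
    | h_std_basis i j x =>
      by_cases h : i = j
      · subst h; exact hdiag i x
      · exact hneg i j x h
  have := hall ((2 : F)⁻¹ • S.1)
  rwa [show sym2 ((2 : F)⁻¹ • S.1) = S from Subtype.ext (by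
    show (2 : F)⁻¹ • S.1 + ((2 : F)⁻¹ • S.1)ᵀ = S.1
    rw [transpose_smul, show (S.1)ᵀ = S.1 from S.2, ← add_smul, ← two_mul, mul_inv_cancel₀ h2, one_smul])]
    at this

variable (hm : 1 ≤ m) (hN : Odd (Fintype.card (Fin (m + 1) → F))) (hq : Odd (Fintype.card F))

include hm hq hN

theorem detEq_chirp (S : SymM F (m + 1)) : DetEq (chirpM S.1) := by
  have h := detRatio_one h2 hm hq S
  have hu : IsUnit ((chirpM S.1 : parCent F (m + 1)) : Op) := by
    refine ⟨⟨(chirpM S.1).1, (chirpM (-S.1)).1, ?_, ?_⟩, rfl⟩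
    · show ((chirpM S.1 * chirpM (-S.1) : parCent F (m + 1)) : Op) = 1
      rw [← chirpM_add, add_neg_cancel, chirpM_zero]; rfl
    · show ((chirpM (-S.1) * chirpM S.1 : parCent F (m + 1)) : Op) = 1
      rw [← chirpM_add, neg_add_cancel, chirpM_zero]; rfl
  exact (div_eq_one_iff_eq (det_res_ne_zero _ hu (-1))).mp h

theorem app_symJ (p r : X) : app (SymplecticGroup.symJ (Fin (m + 1)) F) (vec p r) = vec (-r) p := by
  show ((SymplecticGroup.symJ (Fin (m + 1)) F : G) : M₂) *ᵥ Sum.elim p r = _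
  rw [SymplecticGroup.coe_J, Matrix.J, fromBlocks_mulVec]
  simp [vec, neg_mulVec]

theorem weil_lower (S : SymM F (m + 1)) :
    weil h2 hN (SymplecticGroup.symJ (Fin (m + 1)) F * unip S * (SymplecticGroup.symJ (Fin (m + 1)) F)⁻¹) =
      chirpM S.1 := by
  set J₀ := SymplecticGroup.symJ (Fin (m + 1)) F
  set g := J₀ * unip S * J₀⁻¹
  obtain ⟨hw, hwd⟩ := (exists_weil (n := m + 1) h2 hN g).choose_spec
  refine weil_unique h2 hw hwd ⟨fun h => ?_, fun v => ?_⟩ (detEq_chirp h2 hm hN hq S)
  · have := congrFun (congrFun h 0) 0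
    simp [chirpM, chirp, phase, psi_zero] at this
  · have hg : app g v = vec (fstV v) (sndV v - S.1 *ᵥ fstV v) := by
      have hJi : app J₀⁻¹ v = vec (sndV v) (-fstV v) := by
        conv_lhs => rw [show v = app J₀ (vec (sndV v) (-fstV v)) by
          rw [app_symJ h2 hm hN hq, neg_neg, vec_halves]]
        rw [app_inv]
      rw [app_mul, app_mul, hJi, app_unip, app_symJ h2 hm hN hq, neg_neg, mulVec_neg, ← sub_eq_add_neg]
    ext x y
    show (chirp S.1 * disp v) x y = (disp (app g v) * chirp S.1) x y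
    rw [chirp, diagonal_mul, mul_diagonal, hg, disp_apply, disp_apply, fstV_vec, sndV_vec]
    split_ifs with h
    · subst h
      rw [phase, phase, ← psi_add, ← psi_add]
      congr 1
      have hs : fstV v ⬝ᵥ (S.1 *ᵥ x) = x ⬝ᵥ (S.1 *ᵥ fstV v) := by
        rw [dotProduct_mulVec, ← mulVec_transpose, show (S.1)ᵀ = S.1 from S.2, dotProduct_comm]
      simp only [mulVec_add, dotProduct_add, add_dotProduct, sub_dotProduct, dotProduct_sub]
      rw [hs, dotProduct_comm (S.1 *ᵥ fstV v) x]
      field_simp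
      ring
    · simp

omit h2 hm hq hN

/-- The similitude twist. -/
def twist (δ : Fˣ) : G →* G where
  toFun g := ⟨Matrix.fromBlocks ((δ : F) • (1 : M₁)) 0 0 (1 : M₁) * ((g : G) : M₂) *
      Matrix.fromBlocks ((↑δ⁻¹ : F) • (1 : M₁)) 0 0 (1 : M₁), by
    refine mem_iff_f.mpr fun u v => ?_
    have hd : ∀ (c : F) (w : V), Matrix.fromBlocks (c • (1 : M₁)) 0 0 (1 : M₁) *ᵥ w = vec (c • fstV w) (sndV w) := by
      intro c w
      conv_lhs => rw [← vec_halves w, vec, fromBlocks_mulVec]
      simp [vec, smul_mulVec]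
    have hform : ∀ (c : F) (a b : V), ω (vec (c • fstV a) (sndV a)) (vec (c • fstV b) (sndV b)) = c * ω a b := by
      intro c a b
      rw [form_vec, form_eq, dotProduct_smul, smul_dotProduct]
      simp only [smul_eq_mul]
      ring
    rw [← mulVec_mulVec, ← mulVec_mulVec, ← mulVec_mulVec, ← mulVec_mulVec, hd, hd, hd, hd, hform]
    show (δ : F) * ω (app g _) (app g _) = _
    rw [f_app, hform, ← mul_assoc, Units.mul_inv, one_mul]⟩
  map_one' := Subtype.ext (by
    show _ * (1 : M₂) * _ = 1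
    rw [mul_one, fromBlocks_multiply]
    simp [fromBlocks_one])
  map_mul' g h := Subtype.ext (by
    have hc : Matrix.fromBlocks ((↑δ⁻¹ : F) • (1 : M₁)) 0 0 (1 : M₁) * Matrix.fromBlocks ((δ : F) • (1 : M₁)) 0 0 (1 : M₁) = 1 := by
      rw [fromBlocks_multiply]; simp [fromBlocks_one, smul_smul]
    show _ = _ * _ * _ * (_ * _ * _)
    set d := Matrix.fromBlocks ((δ : F) • (1 : M₁)) 0 0 (1 : M₁)
    set e := Matrix.fromBlocks ((↑δ⁻¹ : F) • (1 : M₁)) 0 0 (1 : M₁)
    show d * (((g : G) : M₂) * ((h : G) : M₂)) * e = _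
    simp only [Matrix.mul_assoc]
    rw [← Matrix.mul_assoc e d, hc, Matrix.one_mul])

theorem twist_twist (δ : Fˣ) (g : G) : twist δ (twist δ⁻¹ g) = g := by
  refine Subtype.ext ?_
  show Matrix.fromBlocks _ 0 0 (1 : M₁) * (Matrix.fromBlocks _ 0 0 (1 : M₁) * ((g : G) : M₂) * Matrix.fromBlocks _ 0 0 1) *
    Matrix.fromBlocks _ 0 0 (1 : M₁) = ((g : G) : M₂)
  rw [inv_inv]
  have hc : Matrix.fromBlocks ((δ : F) • (1 : M₁)) 0 0 (1 : M₁) * Matrix.fromBlocks ((↑δ⁻¹ : F) • (1 : M₁)) 0 0 (1 : M₁) = 1 := by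
    rw [fromBlocks_multiply]; simp [fromBlocks_one, smul_smul]
  simp only [← Matrix.mul_assoc]
  rw [hc, Matrix.one_mul, Matrix.mul_assoc, hc, Matrix.mul_one]

theorem twist_unip (δ : Fˣ) (S : SymM F (m + 1)) (R : SymM F (m + 1)) (hR : R.1 = (δ : F) • S.1) :
    twist δ (unip S) = unip R := by
  refine Subtype.ext ?_
  show Matrix.fromBlocks _ 0 0 (1 : M₁) * Matrix.fromBlocks 1 S.1 0 1 * Matrix.fromBlocks _ 0 0 1 =
    Matrix.fromBlocks 1 R.1 0 1
  rw [fromBlocks_multiply, fromBlocks_multiply]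
  simp [hR, smul_smul]

/-- The automorphism making the Siegel radical diagonal. -/
noncomputable def theta (δ : Fˣ) : G →* G :=
  (MulAut.conj (SymplecticGroup.symJ (Fin (m + 1)) F)).toMonoidHom.comp (twist δ)

theorem theta_surj (δ : Fˣ) (g : G) : ∃ h, theta δ h = g := by
  refine ⟨twist δ⁻¹ ((SymplecticGroup.symJ (Fin (m + 1)) F)⁻¹ * g * SymplecticGroup.symJ (Fin (m + 1)) F), ?_⟩
  show _ * twist δ (twist δ⁻¹ _) * _ = g
  rw [twist_twist]
  group

include h2 hm hq hN

/-- The Weil representation on functions of parity `ε`, with parameter `δ`. -/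
noncomputable def wrep (ε : ℂ) (δ : Fˣ) : Representation ℂ G (Par F (m + 1) ε) :=
  (res ε).comp ((weil h2 hN).comp (theta δ))

theorem wrep_unip (ε : ℂ) (δ : Fˣ) (S : SymM F (m + 1)) (f : Par F (m + 1) ε) (x : X) :
    ((wrep h2 hN ε δ (unip S) f : Par F (m + 1) ε) : X → ℂ) x =
      trChar (lineT ((2 : F)⁻¹ * δ) x) S * (f : X → ℂ) x := by
  set R : SymM F (m + 1) := ⟨(δ : F) • S.1, by
    show (_ : M₁)ᵀ = _
    rw [transpose_smul, show (S.1)ᵀ = S.1 from S.2]⟩
  show ((res ε (weil h2 hN (SymplecticGroup.symJ (Fin (m + 1)) F * twist δ (unip S) *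
    (SymplecticGroup.symJ (Fin (m + 1)) F)⁻¹)) f : Par F (m + 1) ε) : X → ℂ) x = _
  rw [twist_unip δ S R rfl, weil_lower h2 hm hN hq, res_val]
  show (chirp R.1 *ᵥ (f : X → ℂ)) x = _
  rw [chirp, mulVec_diagonal]
  congr 1
  rw [trChar_apply, phase]
  congr 1
  show _ = Matrix.trace (((2 : F)⁻¹ * δ) • vecMulVec x x * S.1)
  rw [Matrix.smul_mul, trace_smul, vecMulVec_mul, trace_vecMulVec, smul_eq_mul]
  show (2 : F)⁻¹ * (x ⬝ᵥ (((δ : F) • S.1) *ᵥ x)) = _
  rw [smul_mulVec, dotProduct_smul, dotProduct_mulVec, smul_eq_mul, dotProduct_comm]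
  ring

theorem wrep_negI : ∃ c : ℂ, c * c = 1 ∧ ∀ (ε : ℂ) (δ : Fˣ) (f : Par F (m + 1) ε),
    wrep h2 hN ε δ (leviS (-1 : GL (Fin (m + 1)) F)) f = (c * ε) • f := by
  set z : G := leviS (-1 : GL (Fin (m + 1)) F) with hz
  have happ : ∀ v : V, app z v = -v := fun v => by
    conv_lhs => rw [hz, ← vec_halves v, app_leviS]
    refine ext_halves ?_ ?_ <;> funext i <;> simp [vec, fstV, sndV, neg_mulVec]
  have hI : IsInt z (par : Op) := by
    refine ⟨fun h => ?_, fun v => by rw [happ, disp_par]⟩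
    have := congrFun (congrFun h 0) 0
    simp [par] at this
  obtain ⟨c, hc⟩ := hI.unique h2 (weil_spec h2 hN z)
  have hfix : ∀ δ : Fˣ, theta δ z = z := fun δ => ext_app fun v => by
    have hneg : ∀ w, app (twist δ z) w = -w := fun w => by
      show (Matrix.fromBlocks _ 0 0 (1 : M₁) * ((z : G) : M₂) * Matrix.fromBlocks _ 0 0 1) *ᵥ w = -w
      rw [← mulVec_mulVec, ← mulVec_mulVec, show ((z : G) : M₂) *ᵥ (Matrix.fromBlocks _ 0 0 (1 : M₁) *ᵥ w) = _ from happ _,
        mulVec_neg, mulVec_mulVec, fromBlocks_multiply]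
      simp [smul_smul, fromBlocks_one]
    show app (_ * twist δ z * _) v = _
    rw [app_mul, app_mul, hneg, happ, show ∀ w : V, -w = (-1 : F) • w from fun w => (neg_one_smul F w).symm,
      app_smul, app_inv', neg_one_smul]
  have hzz : z * z = 1 := ext_app fun v => by rw [app_mul, happ, happ, neg_neg, app_one]
  refine ⟨c, ?_, fun ε δ f => ?_⟩
  · have h1 : ((weil h2 hN z * weil h2 hN z : parCent F (m + 1)) : Op) = 1 := by
      rw [← map_mul, hzz, map_one]; rfl
    rw [show ((weil h2 hN z * weil h2 hN z : parCent F (m + 1)) : Op) =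
      ((weil h2 hN z : parCent F (m + 1)) : Op) * ((weil h2 hN z : parCent F (m + 1)) : Op) from rfl, hc,
      smul_mul_smul_comm, par_sq] at h1
    simpa using congrFun (congrFun h1 0) 0
  · refine Subtype.ext (funext fun x => ?_)
    show ((res ε (weil h2 hN (theta δ z)) f : Par F (m + 1) ε) : X → ℂ) x = _
    rw [hfix, res_val, hc, smul_mulVec, Pi.smul_apply, par_mulVec, f.2 x]
    simp [mul_assoc]

theorem wrep_wt (ε : ℂ) (δ : Fˣ) {T : M₁} (hT : T.IsSymm) {f : Par F (m + 1) ε}
    (hf : f ∈ wt (wrep h2 hN ε δ) T) {x : X} (hx : (f : X → ℂ) x ≠ 0) :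
    T = lineT ((2 : F)⁻¹ * δ) x := by
  have h := trChar_inj h2 (a₁ := ⟨T, hT⟩) (a₂ := ⟨_, lineT_symm ((2 : F)⁻¹ * δ) x⟩) (DFunLike.ext _ _ fun S => by
    have h1 := congrArg (fun g : Par F (m + 1) ε => (g : X → ℂ) x) ((mem_wt _).mp hf S)
    rw [wrep_unip h2 hm hN hq] at h1
    exact (mul_right_cancel₀ hx h1).symm)
  exact congrArg (fun S : SymM F (m + 1) => S.1) h

theorem wrep_low (ε : ℂ) (δ : Fˣ) : LowRep (wrep h2 hN ε δ) := fun T hT hne => by
  obtain ⟨f, hf, hf0⟩ := Submodule.exists_mem_ne_zero_of_ne_bot hne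
  obtain ⟨x, hx⟩ := Function.ne_iff.mp (fun h => hf0 (Subtype.ext h) : (f : X → ℂ) ≠ 0)
  exact ⟨_, x, wrep_wt h2 hm hN hq ε δ hT hf hx⟩

theorem wrep_base {ε : ℂ} (hε : ε = 1 ∨ ε = -1) (δ : Fˣ) {t : F} (ht : t ≠ 0) :
    wt (wrep h2 hN ε δ) (lineT ((2 : F)⁻¹ * δ * (t * t)) (e₀ F m)) ≠ ⊥ := by
  classical
  set y : X := t • e₀ F m
  have hy0 : y ≠ 0 := smul_ne_zero ht fun h => by simpa [e₀] using congrFun h 0
  have hy : y ≠ -y := fun h => hy0 ((neg_eq_self_iff h2 y).mp h)
  let v : X → ℂ := fun z => (if z = y then 1 else 0) + ε * (if z = -y then 1 else 0)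
  have hv : v ∈ Par F (m + 1) ε := fun z => by
    simp only [v, neg_inj, show -z = y ↔ z = -y from neg_eq_iff_eq_neg]
    rcases hε with rfl | rfl <;> ring
  refine (Submodule.ne_bot_iff _).mpr ⟨⟨v, hv⟩, (mem_wt _).mpr fun S => Subtype.ext (funext fun z => ?_),
    fun h => ?_⟩
  · rw [wrep_unip h2 hm hN hq]
    show _ * v z = _ * v z
    by_cases h1 : z = y ∨ z = -y
    · congr 2
      have : lineT ((2 : F)⁻¹ * δ) z = lineT ((2 : F)⁻¹ * δ) y := by
        rcases h1 with rfl | rfl
        · rfl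
        · ext i j; simp [lineT, vecMulVec_apply]
      rw [this]
      congr 1
      ext i j
      simp [lineT, y, vecMulVec_apply]
      ring
    · push Not at h1
      simp [v, h1.1, h1.2]
  · have := congrFun (congrArg Subtype.val h) y
    simp [v, hy] at this

theorem wrep_class (ε : ℂ) (δ : Fˣ) {α : F} (hα : α ≠ 0)
    (h : wt (wrep h2 hN ε δ) (lineT α (e₀ F m)) ≠ ⊥) : ∃ t : F, α = (2 : F)⁻¹ * δ * (t * t) := by
  obtain ⟨f, hf, hf0⟩ := Submodule.exists_mem_ne_zero_of_ne_bot h
  obtain ⟨x, hx⟩ := Function.ne_iff.mp (fun h => hf0 (Subtype.ext h) : (f : X → ℂ) ≠ 0)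
  refine ⟨x 0, ?_⟩
  have := congrFun (congrFun (wrep_wt h2 hm hN hq ε δ (lineT_symm α _) hf hx) 0) 0
  simpa [lineT, vecMulVec_apply, e₀] using this

theorem wrep_moves (ε : ℂ) (δ : Fˣ) (W : Submodule ℂ (Par F (m + 1) ε))
    (hW : ∀ g, ∀ f ∈ W, wrep h2 hN ε δ g f ∈ W) (hne : W ≠ ⊥) :
    ∃ f ∈ W, ∃ S, wrep h2 hN ε δ (unip S) f ≠ f := by
  classical
  by_contra! hfix
  -- everything is supported at the origin
  have hsupp : ∀ f ∈ W, ∀ x : X, x ≠ 0 → (f : X → ℂ) x = 0 := fun f hf x hx => by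
    by_contra hfx
    have h := trChar_inj h2 (a₁ := ⟨_, lineT_symm ((2 : F)⁻¹ * δ) x⟩) (a₂ := (0 : SymM F (m + 1)))
      (DFunLike.ext _ _ fun S => by
        have h1 := congrArg (fun g : Par F (m + 1) ε => (g : X → ℂ) x) (hfix f hf S)
        rw [wrep_unip h2 hm hN hq] at h1
        rw [show trChar ((0 : SymM F (m + 1)) : M₁) S = 1 by
          show RankOne.psi F (Matrix.trace ((0 : M₁) * S.1)) = 1
          rw [Matrix.zero_mul, Matrix.trace_zero, psi_zero]]
        exact mul_right_cancel₀ hfx (h1.trans (one_mul _).symm))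
    obtain ⟨i, hi⟩ := Function.ne_iff.mp hx
    have := congrFun (congrFun (congrArg (fun S : SymM F (m + 1) => S.1) h) i) i
    simp [lineT, vecMulVec_apply, h2, show x i ≠ 0 from hi] at this
  obtain ⟨f, hf, hf0⟩ := Submodule.exists_mem_ne_zero_of_ne_bot hne
  let I : SymM F (m + 1) := ⟨1, transpose_one⟩
  obtain ⟨g, hg⟩ := theta_surj (m := m) δ (unip I)
  set M : Op := ((weil h2 hN (unip I) : parCent F (m + 1)) : Op)
  set d : X → ℂ := fun x => if x = 0 then 1 else 0
  have hfd : (f : X → ℂ) = (f : X → ℂ) 0 • d := funext fun x => by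
    by_cases hx : x = 0
    · subst hx; simp [d]
    · simp [d, hx, hsupp f hf x hx]
  have hf00 : (f : X → ℂ) 0 ≠ 0 := fun h => hf0 (Subtype.ext (by rw [hfd, h, zero_smul]; rfl))
  have hMd : ∀ x : X, x ≠ 0 → (M *ᵥ d) x = 0 := fun x hx => by
    have h1 : ((wrep h2 hN ε δ g f : Par F (m + 1) ε) : X → ℂ) = M *ᵥ (f : X → ℂ) := by
      show ((res ε (weil h2 hN (theta δ g)) f : Par F (m + 1) ε) : X → ℂ) = _
      rw [hg, res_val]
    have h0 := hsupp _ (hW g f hf) x hx
    rw [h1, hfd, mulVec_smul, Pi.smul_apply, smul_eq_mul] at h0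
    exact (mul_eq_zero.mp h0).resolve_left hf00
  set b : X := e₀ F m
  have hb : b ≠ 0 := fun h => by simpa [b, e₀] using congrFun h 0
  have hI : app (unip I : G) (vec 0 b) = vec b b := by rw [app_unip]; simp [I]
  have hdisp : ∀ (u : V) (k : X → ℂ) (z : X), ((disp u : Op) *ᵥ k) z =
      RankOne.psi F (sndV u ⬝ᵥ z + (2 : F)⁻¹ * (fstV u ⬝ᵥ sndV u)) * k (z + fstV u) := fun u k z => by
    rw [mulVec, dotProduct, Finset.sum_eq_single (z + fstV u) (fun w _ hw => by
      rw [disp_apply, if_neg hw, zero_mul]) (fun h => absurd (Finset.mem_univ _) h), disp_apply, if_pos rfl]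
  have hd : (disp (vec 0 b) : Op) *ᵥ d = d := funext fun x => by
    rw [hdisp, fstV_vec, sndV_vec, add_zero, zero_dotProduct, mul_zero, add_zero]
    by_cases hx : x = 0
    · subst hx; simp [psi_zero]
    · simp [d, hx]
  have hspec := (weil_spec (n := m + 1) h2 hN (unip I)).2 (vec 0 b)
  rw [hI] at hspec
  have h3 : M *ᵥ d = (disp (vec b b) : Op) *ᵥ (M *ᵥ d) := by
    conv_lhs => rw [← hd, mulVec_mulVec, show M * disp (vec 0 b) = disp (vec b b) * M from hspec, ← mulVec_mulVec]
  have h0 := congrFun h3 0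
  rw [hdisp, fstV_vec, zero_add, hMd b hb, mul_zero] at h0
  have hMd0 : M *ᵥ d = 0 := funext fun x => by
    by_cases hx : x = 0
    · subst hx; exact h0
    · exact hMd x hx
  have hd0 : d = 0 := (IsInt.injective h2 (weil_spec (n := m + 1) h2 hN (unip I))) (show M *ᵥ d = M *ᵥ 0 by
    rw [hMd0, mulVec_zero])
  simpa [d] using congrFun hd0 0

theorem sub_large (ε : ℂ) (δ : Fˣ) (W : Submodule ℂ (Par F (m + 1) ε))
    (hW : ∀ g, ∀ f ∈ W, wrep h2 hN ε δ g f ∈ W) (hne : W ≠ ⊥) :
    Fintype.card F ^ (m + 1) - 1 ≤ 2 * finrank ℂ W := by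
  classical
  set ρ := wrep h2 hN ε δ
  obtain ⟨f, hf, S, hS⟩ := wrep_moves h2 hm hN hq ε δ W hW hne
  obtain ⟨ψ, w, hψ, hw0, hwW, hw⟩ := exists_weight_ne ρ (T := ⇑(unip : AddChar (SymM F (m + 1)) G))
    unip_add (fun a => hW _) hf hS
  obtain ⟨T, rfl⟩ := exists_trChar h2 ψ
  have hT0 : T.1 ≠ 0 := fun h => hψ (by
    rw [h]
    exact DFunLike.ext _ _ fun R => by
      show RankOne.psi F (Matrix.trace ((0 : M₁) * R.1)) = _
      rw [Matrix.zero_mul, Matrix.trace_zero, psi_zero, AddChar.one_apply])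
  set O := Finset.univ.image (congr' T.1) with hO
  have hinj : Function.Injective fun U : O => trChar U.1 := fun U U' e => by
    obtain ⟨A, -, hA⟩ := Finset.mem_image.mp U.2
    obtain ⟨A', -, hA'⟩ := Finset.mem_image.mp U'.2
    have := trChar_inj h2 (a₁ := ⟨U.1, by rw [← hA]; exact isSymm_congr' T.2 A⟩)
      (a₂ := ⟨U'.1, by rw [← hA']; exact isSymm_congr' T.2 A'⟩) e
    exact Subtype.ext (congrArg (fun S : SymM F (m + 1) => S.1) this)
  have hsum := sum_finrank_le ρ (T := ⇑(unip : AddChar (SymM F (m + 1)) G)) _ hinj W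
  have hle : O.card ≤ finrank ℂ W := by
    refine le_trans ?_ hsum
    rw [← Fintype.card_coe, ← Finset.card_univ, Finset.card_eq_sum_ones]
    refine Finset.sum_le_sum fun U _ => ?_
    rw [Submodule.one_le_finrank_iff]
    obtain ⟨A, -, hA⟩ := Finset.mem_image.mp U.2
    refine (Submodule.ne_bot_iff _).mpr ⟨ρ (leviS A)⁻¹ w, ⟨hW _ w hwW, ?_⟩, fun e => hw0 ?_⟩
    · rw [← hA]; exact levi_mem_wt ρ A hw
    · have h' := congrArg (ρ (leviS A)) e
      simpa [← Module.End.mul_apply, ← map_mul] using h'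
  exact (orbit_bound h2 T.2 hT0).trans (Nat.mul_le_mul_left _ hle)

theorem wrep_irreducible {ε : ℂ} (hε : ε = 1 ∨ ε = -1) (δ : Fˣ) :
    (wrep h2 hN ε δ).IsIrreducible := by
  classical
  set ρ := wrep h2 hN ε δ
  set Q := Fintype.card F ^ (m + 1) with hQ
  have hodd : 2 * finrank ℂ (Par F (m + 1) (-1)) = Q - 1 := by
    have h := finrank_odd (n := m + 1) (F := F) h2
    have : Q % 2 = 1 := Nat.odd_iff.mp hq.pow
    omega
  have hQ9 : 9 ≤ Q := by
    have h3 : 3 ≤ Fintype.card F := by
      have := Fintype.one_lt_card (α := F)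
      rcases hq with ⟨r, hr⟩
      omega
    calc 9 ≤ Fintype.card F ^ 2 := by nlinarith
      _ ≤ Q := Nat.pow_le_pow_right (by omega) (by omega)
  have hdim : 2 * finrank ℂ (Par F (m + 1) ε) ≤ Q + 1 := by
    rcases hε with rfl | rfl
    · rw [finrank_even_eq h2]; omega
    · omega
  have hpos : 0 < finrank ℂ (Par F (m + 1) ε) := by
    rcases hε with rfl | rfl
    · rw [finrank_even_eq h2]; omega
    · omega
  have : Nontrivial (Par F (m + 1) ε) := Module.nontrivial_of_finrank_pos hpos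
  have hnt : Nontrivial (Subrepresentation ρ) := ⟨⊥, ⊤, fun h => by
    have h1 : (⊥ : Submodule ℂ (Par F (m + 1) ε)) = ⊤ := congrArg Subrepresentation.toSubmodule h
    exact bot_ne_top h1⟩
  refine { eq_bot_or_eq_top := fun p => ?_ }
  by_contra! hp
  have : Representation.IsSemisimpleRepresentation ρ := inferInstance
  obtain ⟨q, hpq⟩ := exists_isCompl p
  have hd : p.toSubmodule ⊓ q.toSubmodule = ⊥ :=
    congrArg Subrepresentation.toSubmodule hpq.inf_eq_bot
  have hq0 : q.toSubmodule ≠ ⊥ := fun h => hp.2 (by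
    have := hpq.sup_eq_top
    rwa [show q = ⊥ from Subrepresentation.toSubmodule_injective h, sup_bot_eq] at this)
  have hp0 : p.toSubmodule ≠ ⊥ := fun h => hp.1 (Subrepresentation.toSubmodule_injective h)
  have h1 := sub_large h2 hm hN hq ε δ p.toSubmodule (fun g f hf => p.apply_mem_toSubmodule g hf) hp0
  have h1' := sub_large h2 hm hN hq ε δ q.toSubmodule (fun g f hf => q.apply_mem_toSubmodule g hf) hq0
  have h3 := Submodule.finrank_sup_add_finrank_inf_eq p.toSubmodule q.toSubmodule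
  rw [hd, finrank_bot] at h3
  have h4 := Submodule.finrank_le (p.toSubmodule ⊔ q.toSubmodule)
  omega

end CfsgLib.SpWeilGap
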