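import Cfsg.Agent.Lib.SpWeilGap.Average
import Cfsg.Agent.Lib.SpWeilGap.Model
import Cfsg.Agent.Lib.Char.Basic

/-!
The irreducible representations of small rank are the trivial one and the four Weil representations.
-/

set_option autoImplicit false
set_option linter.unusedSectionVars false

namespace CfsgLib.SpWeilGap

open Matrix Module CfsgLib.SpMinDegree CfsgLib.SUMinDegree CfsgLib.Classical.SympTrans Cfsg
open scoped MatrixGroups

variable {F : Type*} [Field F] [Fintype F] [DecidableEq F] {m : ℕ}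

local notation "X" => (Fin (m + 1) → F)
local notation "G" => Matrix.symplecticGroup (Fin (m + 1)) F
local notation "SymM" => CfsgLib.SpMinDegree.Sym
local notation "M₁" => Matrix (Fin (m + 1)) (Fin (m + 1)) F

section

variable {U : Type*} [AddCommGroup U] [Module ℂ U]
  (ρ : Representation ℂ ↥(Matrix.symplecticGroup (Fin (m + 1)) F) U)

theorem negI_scalar [FiniteDimensional ℂ U] [hirr : ρ.IsIrreducible] :
    ∃ κ : ℂ, κ * κ = 1 ∧ ∀ z, ρ (negI F m) z = κ • z := by
  have hc : ∀ g : G, g * negI F m = negI F m * g := fun g => ext_app fun v => by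
    rw [app_mul, app_mul, app_negI, app_negI, ← neg_one_smul F v, app_smul, neg_one_smul]
  let Ki : Representation.IntertwiningMap ρ ρ := ⟨ρ (negI F m), fun g => LinearMap.ext fun z => by
    simp only [LinearMap.comp_apply, ← rep_mul, hc]⟩
  obtain ⟨κ, hκ⟩ := (Representation.IsIrreducible.algebraMap_intertwiningMap_bijective_of_isAlgClosed
    (ρ := ρ)).2 Ki
  have h : ρ (negI F m) = κ • LinearMap.id := by
    rw [show ρ (negI F m) = Ki.toLinearMap from rfl, ← hκ, Algebra.algebraMap_eq_smul_one]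
    rfl
  refine ⟨κ, ?_, fun z => by rw [h]; rfl⟩
  have hne : Nontrivial U := Module.nontrivial_of_finrank_pos (Char.finrank_pos_of_irreducible ρ)
  obtain ⟨z, hz⟩ := exists_ne (0 : U)
  have h1 : ρ (negI F m) (ρ (negI F m) z) = z := by
    rw [← rep_mul, show negI F m * negI F m = 1 from ext_app fun v => by
      rw [app_mul, app_negI, app_negI, neg_neg, app_one], map_one]
    rfl
  rw [h] at h1
  simp only [LinearMap.smul_apply, LinearMap.id_apply, smul_smul] at h1
  exact smul_left_injective ℂ hz (h1.trans (one_smul ℂ z).symm)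

theorem exists_base (h2 : (2 : F) ≠ 0) (hlow : LowRep ρ) (hnt : ∃ S : SymM F (m + 1), ρ (unip S) ≠ 1) :
    ∃ α : F, α ≠ 0 ∧ wt ρ (lineT α (e₀ F m)) ≠ ⊥ := by
  classical
  obtain ⟨T, hT, hT0, hne⟩ : ∃ T : M₁, T.IsSymm ∧ T ≠ 0 ∧ wt ρ T ≠ ⊥ := by
    by_contra hc
    push Not at hc
    obtain ⟨S, hS⟩ := hnt
    refine hS (ext_wt ρ h2 fun T hT z hz => ?_)
    by_cases h0 : T = 0
    · subst h0
      rw [(mem_wt ρ).mp hz, trChar_apply, Matrix.zero_mul, Matrix.trace_zero, psi_zero, one_smul]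
      rfl
    · rw [hc T hT h0, Submodule.mem_bot] at hz
      simp [hz]
  obtain ⟨c, x, rfl⟩ := hlow T hT hne
  have hc : c ≠ 0 := fun h => hT0 (by simp [h])
  obtain ⟨i, hi⟩ : ∃ i, x i ≠ 0 := Function.ne_iff.mp (show x ≠ 0 from fun h => hT0 (by simp [h]))
  let P : GL (Fin (m + 1)) F := Matrix.GeneralLinearGroup.mkOfDetNeZero ((Equiv.swap 0 i).permMatrix F) (by
    rw [Matrix.det_permutation]
    rcases Int.units_eq_one_or (Equiv.Perm.sign (Equiv.swap 0 i)) with h | h <;> simp [h])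
  set y : X := (x i)⁻¹ • (x ᵥ* (P : M₁)) with hy
  have hy0 : y 0 = 1 := by
    show (x i)⁻¹ * (x ᵥ* (Equiv.swap 0 i).permMatrix F) 0 = 1
    rw [Matrix.vecMul_permMatrix]
    simp [hi]
  refine ⟨c * (x i * x i), mul_ne_zero hc (mul_ne_zero hi hi), ?_⟩
  obtain ⟨z, hz, hz0⟩ := Submodule.exists_mem_ne_zero_of_ne_bot hne
  have h1 : congr' (congr' (c • vecMulVec x x) P) (shift y hy0) = lineT (c * (x i * x i)) (e₀ F m) := by
    rw [show congr' (c • vecMulVec x x) P = lineT (c * (x i * x i)) y by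
      rw [show c • vecMulVec x x = lineT c x from rfl, congr_lineT, lineT, lineT, hy]
      ext a b
      simp [vecMulVec_apply]
      field_simp, congr_lineT_self]
  refine (Submodule.ne_bot_iff _).mpr ⟨ρ (tau y hy0)⁻¹ (ρ (leviS P)⁻¹ z), ?_, fun h => hz0 ?_⟩
  · rw [← h1]
    exact tau_inv_wt ρ hy0 (levi_mem_wt ρ P hz)
  · have h' := congrArg (ρ (leviS P)) (congrArg (ρ (tau y hy0)) h)
    rw [map_zero, map_zero, rep_inv', rep_inv'] at h'
    exact h'

theorem trace_prW [FiniteDimensional ℂ U] (T : M₁) :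
    LinearMap.trace ℂ U (prW ρ T) =
      (Fintype.card (SymM F (m + 1)) : ℂ)⁻¹ * ∑ S, trChar T (-S) * ρ.character (unip S) := by
  rw [prW, projL, map_smul, map_sum, smul_eq_mul]
  congr 1
  exact Finset.sum_congr rfl fun S _ => by rw [map_smul, smul_eq_mul]; rfl

theorem trace_prW_ne_zero [FiniteDimensional ℂ U] {T : M₁} (h : wt ρ T ≠ ⊥) :
    LinearMap.trace ℂ U (prW ρ T) ≠ 0 := by
  have hproj : LinearMap.IsProj (wt ρ T) (prW ρ T) := ⟨prW_mem ρ T, fun z hz => prW_self ρ hz⟩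
  rw [hproj.trace, Nat.cast_ne_zero, ne_eq, Submodule.finrank_eq_zero]
  exact h

end

theorem character_eq_of_intertwiner {U U' : Type*} [AddCommGroup U] [Module ℂ U] [AddCommGroup U'] [Module ℂ U']
    [FiniteDimensional ℂ U] [FiniteDimensional ℂ U']
    (ρ : Representation ℂ G U) (ρ' : Representation ℂ G U') [ρ.IsIrreducible] [ρ'.IsIrreducible]
    (L : U →ₗ[ℂ] U') (hL : L ≠ 0) (h : ∀ g, ρ' g ∘ₗ L = L ∘ₗ ρ g) : ρ.character = ρ'.character := by
  let f : Representation.IntertwiningMap ρ ρ' := ⟨L, fun g => (h g).symm⟩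
  have hbij := (Representation.IsIrreducible.bijective_or_eq_zero f).resolve_right fun e => hL
    (congrArg Representation.IntertwiningMap.toLinearMap e)
  let e := LinearEquiv.ofBijective L hbij
  refine funext fun g => ?_
  show LinearMap.trace ℂ U (ρ g) = LinearMap.trace ℂ U' (ρ' g)
  rw [← LinearMap.trace_conj' (ρ g) e]
  congr 1
  refine LinearMap.ext fun z => ?_
  obtain ⟨w, rfl⟩ := e.surjective z
  show e (ρ g (e.symm (e w))) = ρ' g (L w)
  rw [e.symm_apply_apply]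
  exact (LinearMap.congr_fun (h g) w).symm

omit [DecidableEq F] in
theorem two_ne_zero_of_odd (hodd : Odd (Fintype.card F)) : (2 : F) ≠ 0 := by
  intro h
  have hc : ringChar F = 2 := by
    have hd : ringChar F ∣ 2 := (ringChar.spec F 2).1 (by simpa using h)
    have := Fact.mk (CharP.char_is_prime F (ringChar F))
    exact (Nat.prime_dvd_prime_iff_eq Fact.out Nat.prime_two).1 hd
  exact (Nat.not_even_iff_odd.mpr hodd) (Nat.even_iff.mpr (FiniteField.even_card_of_char_two hc))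

variable (h2 : (2 : F) ≠ 0) (hm : 1 ≤ m) (hN : Odd (Fintype.card (Fin (m + 1) → F)))
  (hq : Odd (Fintype.card F))

include h2 hm hN hq

theorem finrank_two_mul {ε : ℂ} (hε : ε = 1 ∨ ε = -1) :
    2 * (finrank ℂ (Par F (m + 1) ε) : ℂ) = (Fintype.card F : ℂ) ^ (m + 1) + ε := by
  rw [two_mul_finrank h2 (by rcases hε with rfl | rfl <;> norm_num), Fintype.card_fun, Fintype.card_fin]
  push_cast
  rfl

theorem exists_nonsquare : ∃ ν : Fˣ, ¬ IsSquare (ν : F) ∧
    ∀ a : F, a ≠ 0 → ∃ t : F, t ≠ 0 ∧ (a = t * t ∨ a = ν * (t * t)) := by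
  have hc : ringChar F ≠ 2 := fun h => by
    exact (Nat.not_even_iff_odd.mpr hq) (Nat.even_iff.mpr (FiniteField.even_card_of_char_two h))
  obtain ⟨a, ha⟩ := FiniteField.exists_nonsquare hc
  have ha0 : a ≠ 0 := fun h => ha (h ▸ IsSquare.zero)
  refine ⟨Units.mk0 a ha0, ha, fun b hb => ?_⟩
  by_cases hs : IsSquare b
  · obtain ⟨t, rfl⟩ := hs
    exact ⟨t, fun h => hb (by simp [h]), Or.inl rfl⟩
  · have h1 := quadraticChar_neg_one_iff_not_isSquare.mpr hs
    have h1' := quadraticChar_neg_one_iff_not_isSquare.mpr ha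
    have : IsSquare (b / a) := by
      rw [← quadraticChar_one_iff_isSquare (div_ne_zero hb ha0)]
      have := map_mul (quadraticChar F) (b / a) a
      rw [div_mul_cancel₀ b ha0, h1, h1'] at this
      linarith
    obtain ⟨t, ht⟩ := this
    have : b = a * (t * t) := by rw [← ht]; field_simp
    exact ⟨t, fun h => hb (by simp [this, h]), Or.inr this⟩

/-- A nontrivial irreducible representation of small rank has the character of a Weil representation. -/
theorem classify {U : Type*} [AddCommGroup U] [Module ℂ U] [FiniteDimensional ℂ U]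
    (ρ : Representation ℂ G U) [hirr : ρ.IsIrreducible] (ν : Fˣ)
    (hν : ∀ a : F, a ≠ 0 → ∃ t : F, t ≠ 0 ∧ (a = t * t ∨ a = ν * (t * t)))
    (hlow : LowRep ρ) (hnt : ∃ S : SymM F (m + 1), ρ (unip S) ≠ 1) :
    ∃ (ε : ℂ) (δ : Fˣ), (ε = 1 ∨ ε = -1) ∧ (δ = 1 ∨ δ = ν) ∧
      ρ.character = (wrep h2 hN ε δ).character := by
  obtain ⟨α, hα, hM⟩ := exists_base ρ h2 hlow hnt
  obtain ⟨κ, hκ, hκz⟩ := negI_scalar ρ
  obtain ⟨c, hc, hcz⟩ := wrep_negI h2 hm hN hq
  obtain ⟨t, ht, hcase⟩ := hν (2 * α) (mul_ne_zero h2 hα)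
  have hε : c * κ = 1 ∨ c * κ = -1 :=
    mul_self_eq_one_iff.mp (by linear_combination (κ * κ) * hc + hκ)
  obtain ⟨δ, hδ, hδα⟩ : ∃ δ : Fˣ, (δ = 1 ∨ δ = ν) ∧ α = (2 : F)⁻¹ * δ * (t * t) := by
    rcases hcase with h | h
    · refine ⟨1, Or.inl rfl, ?_⟩
      rw [Units.val_one, mul_one, ← h, ← mul_assoc, inv_mul_cancel₀ h2, one_mul]
    · refine ⟨ν, Or.inr rfl, ?_⟩
      rw [mul_assoc, ← h, ← mul_assoc, inv_mul_cancel₀ h2, one_mul]
  refine ⟨c * κ, δ, hε, hδ, ?_⟩
  have := wrep_irreducible h2 hm hN hq hε δ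
  obtain ⟨L, hL, hint⟩ := exists_intertwiner ρ (wrep h2 hN (c * κ) δ) α h2 hα hm hlow
    (wrep_low h2 hm hN hq _ δ) ⟨κ, left_ne_zero_of_mul_eq_one hκ, hκz, fun z => by
      rw [negI, hcz, ← mul_assoc, hc, one_mul]⟩ hirr hM (by rw [hδα]; exact wrep_base h2 hm hN hq hε δ ht)
  exact character_eq_of_intertwiner ρ _ L hL hint

theorem wrep_inj {ν : Fˣ} (hν : ¬ IsSquare (ν : F)) {ε : ℂ} (hε : ε = 1 ∨ ε = -1)
    (h : (wrep h2 hN ε (1 : Fˣ)).character = (wrep h2 hN ε ν).character) : False := by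
  set α : F := (2 : F)⁻¹ * ((1 : Fˣ) : F) * (1 * 1) with hα
  have h1 := wrep_base h2 hm hN hq hε (1 : Fˣ) one_ne_zero
  have h1' : wt (wrep h2 hN ε ν) (lineT α (e₀ F m)) ≠ ⊥ := by
    intro h0
    have ht := trace_prW_ne_zero _ h1
    rw [trace_prW, h, ← trace_prW] at ht
    refine ht ?_
    have hz : prW (wrep h2 hN ε ν) (lineT α (e₀ F m)) = 0 := LinearMap.ext fun z => by
      have := prW_mem (wrep h2 hN ε ν) (lineT α (e₀ F m)) z
      rwa [h0, Submodule.mem_bot] at this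
    rw [hz, map_zero]
  obtain ⟨t, ht⟩ := wrep_class h2 hm hN hq ε ν (by simp [hα, h2]) h1'
  simp only [hα, Units.val_one, mul_one] at ht
  rw [mul_assoc] at ht
  have h3 : (ν : F) * (t * t) = 1 := by
    have := mul_left_cancel₀ (inv_ne_zero h2) (ht.symm.trans (mul_one _).symm)
    exact this
  have ht0 : t ≠ 0 := fun h => by rw [h] at h3; simp at h3
  exact hν ⟨t⁻¹, by field_simp; linear_combination h3⟩

/-- The statement in this index. -/
theorem main :
    Nat.card {χ : IrrCharacter G // (χ : G → ℂ) 1 = ((Fintype.card F ^ (m + 1) + 1 : ℕ) : ℂ) / 2} = 2 ∧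
    Nat.card {χ : IrrCharacter G // (χ : G → ℂ) 1 = ((Fintype.card F ^ (m + 1) - 1 : ℕ) : ℂ) / 2} = 2 ∧
    ∀ χ : IrrCharacter G, (χ : G → ℂ) 1 ≠ 1 →
      (χ : G → ℂ) 1 ≠ ((Fintype.card F ^ (m + 1) + 1 : ℕ) : ℂ) / 2 →
      (χ : G → ℂ) 1 ≠ ((Fintype.card F ^ (m + 1) - 1 : ℕ) : ℂ) / 2 →
      ((Fintype.card F ^ (m + 1) - 1 : ℕ) : ℝ) * ((Fintype.card F ^ (m + 1) - Fintype.card F : ℕ) : ℝ) /
        (2 * ((Fintype.card F : ℕ) + 1 : ℝ)) ≤ ‖(χ : G → ℂ) 1‖ := by
  classical
  obtain ⟨ν, hνsq, hν⟩ := exists_nonsquare h2 hm hN hq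
  set q := Fintype.card F with hqdef
  set Q := q ^ (m + 1) with hQ
  have hQ1 : 1 ≤ Q := Nat.one_le_pow _ _ Fintype.card_pos
  have hval : ∀ {ε : ℂ}, (ε = 1 ∨ ε = -1) → ∀ δ : Fˣ,
      (wrep h2 hN ε δ).character 1 = ((Q : ℂ) + ε) / 2 := fun {ε} hε δ => by
    rw [Representation.char_one, eq_div_iff two_ne_zero, mul_comm, finrank_two_mul h2 hm hN hq hε, hQ,
      Nat.cast_pow]
  have hplus : ((Q + 1 : ℕ) : ℂ) / 2 = ((Q : ℂ) + 1) / 2 := by push_cast; rfl
  have hminus : ((Q - 1 : ℕ) : ℂ) / 2 = ((Q : ℂ) + -1) / 2 := by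
    rw [Nat.cast_sub hQ1, Nat.cast_one, sub_eq_add_neg]
  have h3 : 3 ≤ q := by
    have := Fintype.one_lt_card (α := F)
    rcases hq with ⟨r, hr⟩
    omega
  have hQq : q * q ≤ Q := by
    calc q * q = q ^ 2 := (sq q).symm
      _ ≤ Q := Nat.pow_le_pow_right (by omega) (by omega)
  have hbig : (Q + 1) * (q + 1) < (Q - 1) * (Q - q) := by
    obtain ⟨a, ha⟩ : ∃ a, Q = a + 1 := ⟨Q - 1, by omega⟩
    have h5 : q + 3 ≤ Q - q := by
      have : 3 * q ≤ q * q := Nat.mul_le_mul_right q h3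
      omega
    have h6 : (Q - 1) * (q + 3) ≤ (Q - 1) * (Q - q) := Nat.mul_le_mul_left _ h5
    rw [ha] at h6 ⊢
    simp only [Nat.add_sub_cancel] at h6 ⊢
    nlinarith
  -- a character of small degree, other than the principal one, is one of the four
  have hcl : ∀ χ : IrrCharacter G, (χ : G → ℂ) 1 ≠ 1 → ∀ d : ℕ, (χ : G → ℂ) 1 = d →
      ((Q - 1) * (Q - q) ≤ 2 * (q + 1) * d) ∨ ∃ (ε : ℂ) (δ : Fˣ), (ε = 1 ∨ ε = -1) ∧ (δ = 1 ∨ δ = ν) ∧
        (χ : G → ℂ) = (wrep h2 hN ε δ).character := by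
    intro χ hne d hd
    obtain ⟨k, ρ, hirr, hρ⟩ := χ.2
    have hk : d = k := by
      rw [← hρ, Representation.char_one, finrank_fin_fun] at hd
      exact_mod_cast hd.symm
    by_cases hlow : LowRep ρ
    swap
    · left
      have := degree_of_not_low ρ h2 hlow
      rwa [finrank_fin_fun, ← hk] at this
    right
    have hnt : ∃ S : SymM F (m + 1), ρ (unip S) ≠ 1 := by
      by_contra hc
      push Not at hc
      refine hne ?_
      have h1 := eq_one_of_unip χ.2 (by omega) fun S => by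
        rw [← hρ]
        show LinearMap.trace ℂ _ (ρ (unip S)) = LinearMap.trace ℂ _ (ρ 1)
        rw [hc, show ρ (1 : G) = 1 from map_one ρ]
      exact congrFun h1 1
    obtain ⟨ε, δ, hε, hδ, he⟩ := classify h2 hm hN hq ρ ν hν hlow hnt
    exact ⟨ε, δ, hε, hδ, hρ ▸ he⟩
  have hirr : ∀ {ε : ℂ}, (ε = 1 ∨ ε = -1) → ∀ δ : Fˣ, IsIrrCharacter G (wrep h2 hN ε δ).character := fun {ε} hε δ => by
    have := wrep_irreducible h2 hm hN hq hε δ
    exact Char.isIrrCharacter_character _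
  have hcount : ∀ ε : ℂ, (ε = 1 ∨ ε = -1) →
      Nat.card {χ : IrrCharacter G // (χ : G → ℂ) 1 = ((Q : ℂ) + ε) / 2} = 2 := by
    intro ε hε
    let f : Bool → {χ : IrrCharacter G // (χ : G → ℂ) 1 = ((Q : ℂ) + ε) / 2} := fun b =>
      ⟨⟨_, hirr hε (if b then ν else 1)⟩, hval hε _⟩
    have hinj : Function.Injective f := by
      intro a b hab
      have h : (wrep h2 hN ε (if a then ν else 1)).character = (wrep h2 hN ε (if b then ν else 1)).character :=
        congrArg (fun x => ((x.1 : IrrCharacter G) : G → ℂ)) hab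
      cases a <;> cases b
      · rfl
      · exact (wrep_inj h2 hm hN hq hνsq hε h).elim
      · exact (wrep_inj h2 hm hN hq hνsq hε h.symm).elim
      · rfl
    have hsurj : Function.Surjective f := by
      rintro ⟨χ, hχ⟩
      obtain ⟨d, hd⟩ := Char.exists_nat_degree (Char.isCharacter_of_isIrr χ.2)
      have h2d : (2 : ℂ) * d = (Q : ℂ) + ε := by rw [← hd, hχ]; ring
      have hQ9 : 9 ≤ Q := le_trans (by nlinarith) hQq
      have hdle : 2 * d ≤ Q + 1 ∧ Q ≤ 2 * d + 1 := by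
        rcases hε with rfl | rfl
        · have : 2 * d = Q + 1 := by exact_mod_cast h2d
          omega
        · have : 2 * d + 1 = Q := by
            apply Nat.cast_injective (R := ℂ)
            push_cast
            rw [h2d]; ring
          omega
      rcases hcl χ (fun h => by
        rw [hd, Nat.cast_eq_one] at h
        omega) d hd with h | ⟨ε', δ, hε', hδ, he⟩
      · exfalso
        have : 2 * (q + 1) * d ≤ (q + 1) * (Q + 1) := by
          rw [mul_comm 2 (q + 1), mul_assoc]; exact Nat.mul_le_mul_left _ hdle.1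
        rw [mul_comm (Q + 1)] at hbig
        omega
      · have hee : ε' = ε := by
          have := hval hε' δ
          rw [← he, hχ] at this
          linear_combination -2 * this
        subst hee
        rcases hδ with rfl | rfl
        · exact ⟨false, Subtype.ext (Subtype.ext he.symm)⟩
        · exact ⟨true, Subtype.ext (Subtype.ext he.symm)⟩
    rw [← Nat.card_congr (Equiv.ofBijective f ⟨hinj, hsurj⟩), Nat.card_eq_fintype_card, Fintype.card_bool]
  refine ⟨?_, ?_, fun χ h1 hp hmn => ?_⟩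
  · rw [hplus]; exact hcount 1 (Or.inl rfl)
  · rw [hminus]; exact hcount (-1) (Or.inr rfl)
  obtain ⟨d, hd⟩ := Char.exists_nat_degree (Char.isCharacter_of_isIrr χ.2)
  rcases hcl χ h1 d hd with h | ⟨ε, δ, hε, -, he⟩
  · rw [hd, Complex.norm_natCast, div_le_iff₀ (by positivity), ← Nat.cast_mul]
    calc (((Q - 1) * (Q - q) : ℕ) : ℝ) ≤ ((2 * (q + 1) * d : ℕ) : ℝ) := Nat.cast_le.mpr h
      _ = (d : ℝ) * (2 * ((q : ℝ) + 1)) := by push_cast; ring
  · exfalso
    have := hval hε δ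
    rw [← he] at this
    rcases hε with rfl | rfl
    · exact hp (by rw [hplus, this])
    · exact hmn (by rw [hminus, this])

end CfsgLib.SpWeilGap
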