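import Cfsg.Agent.Lib.SpMinDegree.Orbit

/-!
Congruence orbits of symmetric matrices of rank at least two in odd characteristic have at least
`(q^n - 1)(q^n - q)/(2(q + 1))` elements.
-/

set_option autoImplicit false
set_option linter.unusedSectionVars false

namespace CfsgLib.SpWeilGap

open Matrix CfsgLib.SpMinDegree
open scoped MatrixGroups

variable {F : Type*} [Field F] [Fintype F] [DecidableEq F] {n : ℕ}

/-- A symmetric matrix of rank at most one. -/
def LowRank (T : Matrix (Fin n) (Fin n) F) : Prop := ∃ (c : F) (x : Fin n → F), T = c • vecMulVec x x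

theorem lowRank_congr' {T : Matrix (Fin n) (Fin n) F} (h : LowRank T) (A : GL (Fin n) F) :
    LowRank (congr' T A) := by
  obtain ⟨c, x, rfl⟩ := h
  refine ⟨c, x ᵥ* (A : Matrix (Fin n) (Fin n) F), ?_⟩
  rw [congr', Matrix.mul_smul, Matrix.smul_mul, mul_vecMulVec, vecMulVec_mul, mulVec_transpose]

theorem card_conic_le (a b c : F) (ha : a ≠ 0) (hb : b ≠ 0) (hc : c ≠ 0) (h2 : (2 : F) ≠ 0) :
    Nat.card {p : F × F // a * p.1 ^ 2 + b * p.2 ^ 2 = c} ≤ Fintype.card F + 1 := by
  classical
  by_cases h : ∃ p : F × F, a * p.1 ^ 2 + b * p.2 ^ 2 = c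
  swap
  · have : IsEmpty {p : F × F // a * p.1 ^ 2 + b * p.2 ^ 2 = c} := ⟨fun p => h ⟨p.1, p.2⟩⟩
    simp
  obtain ⟨⟨x0, y0⟩, h0⟩ := h
  simp only at h0
  -- the slope of the chord, with the tangent's slope for the point itself
  let f : {p : F × F // a * p.1 ^ 2 + b * p.2 ^ 2 = c} → Option F := fun p =>
    if p.1.1 = x0 then (if p.1.2 = y0 then (if y0 = 0 then none else some (-(a * x0) / (b * y0)))
      else none) else some ((p.1.2 - y0) / (p.1.1 - x0))
  have hne : ∀ p : {p : F × F // a * p.1 ^ 2 + b * p.2 ^ 2 = c}, ¬ (p.1.1 = x0 ∧ p.1.2 = y0) →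
      (a * (p.1.1 + x0) * (p.1.1 - x0) + b * (p.1.2 + y0) * (p.1.2 - y0) = 0) := fun p _ => by
    linear_combination p.2 - h0
  have hinj : Function.Injective f := by
    rintro ⟨⟨x, y⟩, hp⟩ ⟨⟨x', y'⟩, hp'⟩ hf
    simp only at hp hp'
    simp only [f] at hf
    have hcase : ∀ u v : F, a * u ^ 2 + b * v ^ 2 = c → u ≠ x0 →
        (a + b * ((v - y0) / (u - x0)) ^ 2) * (u - x0) = -(2 * (a * x0 + b * ((v - y0) / (u - x0)) * y0)) := by
      intro u v huv hu
      have hd : u - x0 ≠ 0 := sub_ne_zero.mpr hu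
      field_simp
      linear_combination huv - h0
    -- a slope determines its second point
    have key : ∀ u v u' v' : F, a * u ^ 2 + b * v ^ 2 = c → a * u' ^ 2 + b * v' ^ 2 = c → u ≠ x0 →
        u' ≠ x0 → (v - y0) / (u - x0) = (v' - y0) / (u' - x0) → u = u' ∧ v = v' := by
      intro u v u' v' e e' hu hu' hs
      have h1 := hcase u v e hu
      have h1' := hcase u' v' e' hu'
      rw [← hs] at h1'
      set s := (v - y0) / (u - x0) with hsd
      have hd : u - x0 ≠ 0 := sub_ne_zero.mpr hu
      have hA : a + b * s ^ 2 ≠ 0 := by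
        intro hA
        rw [hA, zero_mul] at h1
        have h3 : a * x0 + b * s * y0 = 0 := by
          have := neg_eq_zero.mp h1.symm
          exact (mul_eq_zero.mp this).resolve_left h2
        have hs0 : s ≠ 0 := fun h => ha (by rw [h] at hA; linear_combination hA)
        have hy : y0 = s * x0 := by
          have : b * s * (y0 - s * x0) = 0 := by linear_combination h3 - x0 * hA
          exact sub_eq_zero.mp ((mul_eq_zero.mp this).resolve_left (mul_ne_zero hb hs0))
        rw [hy] at h0
        exact hc (by linear_combination -h0 + x0 ^ 2 * hA)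
      have hu2 : u = u' := by
        have : (a + b * s ^ 2) * ((u - x0) - (u' - x0)) = 0 := by linear_combination h1 - h1'
        linear_combination (mul_eq_zero.mp this).resolve_left hA
      refine ⟨hu2, ?_⟩
      subst hu2
      rw [hsd, div_left_inj' hd] at hs
      linear_combination hs
    have vert : ∀ v v' : F, a * x0 ^ 2 + b * v ^ 2 = c → a * x0 ^ 2 + b * v' ^ 2 = c → v ≠ y0 →
        v' ≠ y0 → v = v' := by
      intro v v' e e' hv hv'
      have q1 : v = -y0 := by
        have : b * ((v - y0) * (v + y0)) = 0 := by linear_combination e - h0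
        exact eq_neg_of_add_eq_zero_left
          ((mul_eq_zero.mp ((mul_eq_zero.mp this).resolve_left hb)).resolve_left (sub_ne_zero.mpr hv))
      have q2 : v' = -y0 := by
        have : b * ((v' - y0) * (v' + y0)) = 0 := by linear_combination e' - h0
        exact eq_neg_of_add_eq_zero_left
          ((mul_eq_zero.mp ((mul_eq_zero.mp this).resolve_left hb)).resolve_left (sub_ne_zero.mpr hv'))
      rw [q1, q2]
    -- the tangent's slope is not a chord's
    have tang : ∀ u v : F, a * u ^ 2 + b * v ^ 2 = c → u ≠ x0 → y0 ≠ 0 →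
        (v - y0) / (u - x0) ≠ -(a * x0) / (b * y0) := by
      intro u v e hu hy hs
      have h1 := hcase u v e hu
      rw [hs] at h1
      have hd : u - x0 ≠ 0 := sub_ne_zero.mpr hu
      have hz : a * x0 + b * (-(a * x0) / (b * y0)) * y0 = 0 := by field_simp; ring
      rw [hz, mul_zero, neg_zero] at h1
      have hA := (mul_eq_zero.mp h1).resolve_right hd
      field_simp at hA
      exact (mul_ne_zero ha hc) (by linear_combination hA - a * h0)
    have vert0 : ∀ v : F, a * x0 ^ 2 + b * v ^ 2 = c → y0 = 0 → v = y0 := by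
      intro v e hy
      subst hy
      have : b * v ^ 2 = 0 := by linear_combination e - h0
      simpa [hb] using this
    by_cases hx : x = x0 <;> by_cases hx' : x' = x0
    · subst hx; subst hx'
      by_cases hy : y = y0 <;> by_cases hy' : y' = y0
      · subst hy; subst hy'; rfl
      · by_cases hz : y0 = 0
        · exact absurd (vert0 y' hp' hz) hy'
        · simp [hy, hy', hz] at hf
      · by_cases hz : y0 = 0
        · exact absurd (vert0 y hp hz) hy
        · simp [hy, hy', hz] at hf
      · exact Subtype.ext (Prod.ext rfl (vert y y' hp hp' hy hy'))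
    · subst hx
      by_cases hy : y = y0
      · by_cases hz : y0 = 0
        · simp [hy, hx', hz] at hf
        · simp [hy, hx', hz] at hf
          exact absurd hf.symm (by simpa [neg_div] using tang x' y' hp' hx' hz)
      · simp [hy, hx'] at hf
    · subst hx'
      by_cases hy : y' = y0
      · by_cases hz : y0 = 0
        · simp [hy, hx, hz] at hf
        · simp [hy, hx, hz] at hf
          exact absurd hf (by simpa [neg_div] using tang x y hp hx hz)
      · simp [hy, hx] at hf
    · simp only [if_neg hx, if_neg hx', Option.some.injEq] at hf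
      obtain ⟨rfl, rfl⟩ := key x y x' y' hp hp' hx hx' hf
      rfl
  have := Nat.card_le_card_of_injective f hinj
  simpa [Nat.card_eq_fintype_card] using this

theorem card_split_le (a b c : F) (ha : a ≠ 0) (hb : b ≠ 0) (t : F) (ht : t * t * b = -a) (h2 : (2 : F) ≠ 0)
    (hc : c ≠ 0) : Nat.card {p : F × F // a * p.1 ^ 2 + b * p.2 ^ 2 = c} ≤ Fintype.card F - 1 := by
  classical
  refine le_trans (Nat.card_le_card_of_injective
    (fun p : {p : F × F // a * p.1 ^ 2 + b * p.2 ^ 2 = c} =>
      (Units.mk0 (p.1.2 - t * p.1.1) fun h => hc (by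
        rw [← p.2]; linear_combination (b * (p.1.2 + t * p.1.1)) * h + p.1.1 ^ 2 * ht) : Fˣ)) ?_) ?_
  · rintro ⟨⟨x, y⟩, hp⟩ ⟨⟨x', y'⟩, hp'⟩ h
    have h' : y - t * x = y' - t * x' := congrArg Units.val h
    simp only at hp hp'
    have hne : y - t * x ≠ 0 := fun h0 => hc (by
      rw [← hp]; linear_combination (b * (y + t * x)) * h0 + x ^ 2 * ht)
    have ht0 : t ≠ 0 := fun h => ha (by rw [h] at ht; linear_combination ht)
    have hsum : (y - t * x) * (b * ((y + t * x) - (y' + t * x'))) = 0 := by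
      linear_combination hp - hp' - x ^ 2 * ht + x' ^ 2 * ht - b * (y' + t * x') * h'
    have hy : y + t * x = y' + t * x' := by
      have := (mul_eq_zero.mp ((mul_eq_zero.mp hsum).resolve_left hne)).resolve_left hb
      linear_combination this
    have e2 : y = y' := mul_left_cancel₀ h2 (by linear_combination h' + hy)
    subst e2
    have e1 : t * x = t * x' := by linear_combination hy
    exact Subtype.ext (Prod.ext (mul_left_cancel₀ ht0 e1) rfl)
  · rw [Nat.card_eq_fintype_card, Fintype.card_units]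

theorem card_pair_level_le {m : ℕ} (a b e : F) (ha : a ≠ 0) (hb : b ≠ 0) (he : e ≠ 0)
    (h2 : (2 : F) ≠ 0) (R : Matrix (Fin m) (Fin m) F) (hR : R.IsSymm) :
    Nat.card {p : (F × F) × (Fin m → F) // a * p.1.1 ^ 2 + b * p.1.2 ^ 2 + p.2 ⬝ᵥ (R *ᵥ p.2) = e} ≤
      (Fintype.card F + 1) * Fintype.card F ^ m := by
  classical
  set q := Fintype.card F
  have hq : 1 ≤ q := Fintype.card_pos
  let fb : (Fin m → F) → ℕ := fun z => Nat.card {p : F × F // a * p.1 ^ 2 + b * p.2 ^ 2 = e - z ⬝ᵥ (R *ᵥ z)}
  have hsum : Nat.card {p : (F × F) × (Fin m → F) //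
      a * p.1.1 ^ 2 + b * p.1.2 ^ 2 + p.2 ⬝ᵥ (R *ᵥ p.2) = e} = ∑ z, fb z := by
    rw [← Nat.card_sigma]
    exact Nat.card_congr
      { toFun := fun p => ⟨p.1.2, p.1.1, by linear_combination p.2⟩
        invFun := fun s => ⟨(s.2.1, s.1), by linear_combination s.2.2⟩
        left_inv := fun p => rfl
        right_inv := fun s => rfl }
  rw [hsum]
  by_cases hs : ∃ t : F, t * t * b = -a
  · obtain ⟨t, ht⟩ := hs
    have hfb : ∀ z, fb z ≤ (q - 1) + if z ⬝ᵥ (R *ᵥ z) = e then q else 0 := fun z => by
      split_ifs with hz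
      · have ht0 : t ≠ 0 := fun h => ha (by subst h; linear_combination ht)
        have hpt : ∀ p : {p : F × F // a * p.1 ^ 2 + b * p.2 ^ 2 = e - z ⬝ᵥ (R *ᵥ z)},
            p.1.2 = t * p.1.1 ∨ p.1.2 = -(t * p.1.1) := fun p => by
          have hp : a * p.1.1 ^ 2 + b * p.1.2 ^ 2 = 0 := p.2.trans (sub_eq_zero.mpr hz.symm)
          have : b * ((p.1.2 - t * p.1.1) * (p.1.2 + t * p.1.1)) = 0 := by
            linear_combination hp - p.1.1 ^ 2 * ht
          rcases mul_eq_zero.mp ((mul_eq_zero.mp this).resolve_left hb) with h | h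
          · exact Or.inl (sub_eq_zero.mp h)
          · exact Or.inr (eq_neg_of_add_eq_zero_left h)
        refine le_trans (Nat.card_le_card_of_injective
          (fun p : {p : F × F // a * p.1 ^ 2 + b * p.2 ^ 2 = e - z ⬝ᵥ (R *ᵥ z)} =>
            (if h : p.1.2 = t * p.1.1 then Sum.inl p.1.1 else Sum.inr (Units.mk0 p.1.1 fun hx =>
              h (by rcases hpt p with h' | h' <;> rw [h', hx] <;> simp)) : F ⊕ Fˣ)) ?_) ?_
        · intro p p' h
          dsimp only at h
          split_ifs at h with h1 h1'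
          · have hx := Sum.inl.inj h
            exact Subtype.ext (Prod.ext hx (by rw [h1, h1', hx]))
          · have hx : p.1.1 = p'.1.1 := congrArg Units.val (Sum.inr.inj h)
            exact Subtype.ext (Prod.ext hx (by
              rw [(hpt p).resolve_left h1, (hpt p').resolve_left (by assumption), hx]))
        · rw [Nat.card_sum, Nat.card_eq_fintype_card, Nat.card_eq_fintype_card, Fintype.card_units]
          omega
      · exact (card_split_le a b _ ha hb t ht h2 fun h => hz (sub_eq_zero.mp h).symm).trans (by simp [q])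
    refine (Finset.sum_le_sum fun z _ => hfb z).trans ?_
    rw [Finset.sum_add_distrib, Finset.sum_const, Finset.card_univ, Fintype.card_fun, Fintype.card_fin,
      ← Finset.sum_filter, Finset.sum_const, smul_eq_mul, smul_eq_mul, ← Fintype.card_subtype]
    suffices h : Nat.card {z : Fin m → F // z ⬝ᵥ (R *ᵥ z) = e} * q ≤ 2 * q ^ m by
      rw [Nat.card_eq_fintype_card] at h
      have e1 : q ^ m * (q - 1) + 2 * q ^ m = (q + 1) * q ^ m := by
        rw [mul_comm _ (q - 1), ← add_mul]; congr 1; omega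
      simp only [q] at *
      omega
    rcases m with _ | k
    · have : IsEmpty {z : Fin 0 → F // z ⬝ᵥ (R *ᵥ z) = e} := ⟨fun z => he (by rw [← z.2]; simp [dotProduct])⟩
      simp [he.symm]
    by_cases hR0 : R = 0
    · have : IsEmpty {z : Fin (k + 1) → F // z ⬝ᵥ (R *ᵥ z) = e} := ⟨fun z => he (by rw [← z.2]; simp [hR0])⟩
      simp
    obtain ⟨A, hA⟩ := exists_corner h2 hR hR0
    have hc : Nat.card {z : Fin (k + 1) → F // z ⬝ᵥ (R *ᵥ z) = e} =
        Nat.card {z : Fin (k + 1) → F // z ⬝ᵥ (congr' R A *ᵥ z) = e} := by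
      refine (Nat.card_congr (Equiv.subtypeEquiv
        (Matrix.toLinearEquiv' (A : Matrix (Fin (k + 1)) (Fin (k + 1)) F) A.invertible).toEquiv fun z => ?_)).symm
      show _ ↔ ((A : Matrix _ _ F) *ᵥ z) ⬝ᵥ (R *ᵥ ((A : Matrix _ _ F) *ᵥ z)) = e
      rw [congr', ← mulVec_mulVec, ← mulVec_mulVec, dotProduct_mulVec z _ᵀ, vecMul_transpose]
    rw [hc]
    calc _ ≤ 2 * q ^ k * q := Nat.mul_le_mul_right _ (card_level_le _ hA e)
      _ = 2 * q ^ (k + 1) := by rw [pow_succ, mul_assoc]
  · calc ∑ z, fb z ≤ ∑ _z : Fin m → F, (q + 1) := Finset.sum_le_sum fun z _ => by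
          by_cases hz : e - z ⬝ᵥ (R *ᵥ z) = 0
          · refine le_trans (?_ : fb z ≤ 1) (by omega)
            have : Subsingleton {p : F × F // a * p.1 ^ 2 + b * p.2 ^ 2 = e - z ⬝ᵥ (R *ᵥ z)} := by
              refine ⟨fun p p' => ?_⟩
              have h0 : ∀ p : F × F, a * p.1 ^ 2 + b * p.2 ^ 2 = e - z ⬝ᵥ (R *ᵥ z) → p = 0 := fun p hp => by
                rw [hz] at hp
                by_cases hx : p.1 = 0
                · refine Prod.ext hx ?_
                  have : b * p.2 ^ 2 = 0 := by rw [hx] at hp; linear_combination hp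
                  simpa [hb] using this
                · exact absurd ⟨p.2 / p.1, by field_simp; linear_combination hp⟩ hs
              exact Subtype.ext ((h0 _ p.2).trans (h0 _ p'.2).symm)
            exact Finite.card_le_one_iff_subsingleton.mpr this
          · exact card_conic_le a b _ ha hb hz h2
      _ = (q + 1) * q ^ m := by
        rw [Finset.sum_const, Finset.card_univ, Fintype.card_fun, Fintype.card_fin, smul_eq_mul, mul_comm]

variable {m : ℕ}

theorem exists_block (h2 : (2 : F) ≠ 0) {T : Matrix (Fin (m + 1)) (Fin (m + 1)) F} (hT : T.IsSymm)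
    (hT0 : T ≠ 0) : ∃ A : GL (Fin (m + 1)) F,
      congr' T A 0 0 ≠ 0 ∧ ∀ j : Fin m, congr' T A 0 j.succ = 0 ∧ congr' T A j.succ 0 = 0 := by
  obtain ⟨A, hA⟩ := exists_corner h2 hT hT0
  set S := congr' T A
  have hS : S.IsSymm := isSymm_congr' hT A
  let u : Fin (m + 1) → F := fun j => if j = 0 then 0 else -(S 0 j / S 0 0)
  let B : Matrix (Fin (m + 1)) (Fin (m + 1)) F := 1 + vecMulVec (Pi.single 0 1) u
  have hu : u 0 = 0 := if_pos rfl
  have hB : B.det ≠ 0 := by
    have hsub : B.submatrix Fin.succ Fin.succ = 1 := by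
      ext i j
      simp [B, Matrix.one_apply, vecMulVec_apply, Fin.succ_ne_zero, Fin.succ_inj]
    rw [det_succ_column_zero, Fin.sum_univ_succ]
    simp [B, hu, vecMulVec_apply, Matrix.one_apply, Fin.succ_ne_zero]
    simpa [B] using show (B.submatrix Fin.succ Fin.succ).det ≠ 0 by rw [hsub, det_one]; exact one_ne_zero
  let Bu := Matrix.GeneralLinearGroup.mkOfDetNeZero B hB
  refine ⟨A * Bu, ?_, ?_⟩ <;> rw [congr'_mul]
  · show (Bᵀ * S * B) 0 0 ≠ 0
    simpa [B, Matrix.mul_apply, Matrix.add_apply, Matrix.one_apply, vecMulVec_apply, hu, Pi.single_apply]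
      using hA
  · intro j
    have h : congr' S Bu 0 j.succ = 0 := by
      show (Bᵀ * S * B) 0 j.succ = 0
      simp [B, Matrix.mul_apply, Matrix.add_apply, Matrix.one_apply, vecMulVec_apply, hu, Pi.single_apply,
        mul_add, Finset.sum_add_distrib]
      simp [u, Fin.succ_ne_zero]
      field_simp
      ring
    exact ⟨h, by rw [(isSymm_congr' hS Bu).apply 0 j.succ]; exact h⟩

theorem card_iso_block (T : Matrix (Fin (m + 1 + 1)) (Fin (m + 1 + 1)) F) (h00 : T 0 0 ≠ 0)
    (hblk : ∀ j : Fin (m + 1), T 0 j.succ = 0 ∧ T j.succ 0 = 0)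
    (h11 : T.submatrix Fin.succ Fin.succ 0 0 ≠ 0)
    (hblk' : ∀ j : Fin m, T.submatrix Fin.succ Fin.succ 0 j.succ = 0 ∧ T.submatrix Fin.succ Fin.succ j.succ 0 = 0)
    (hT : T.IsSymm) (h2 : (2 : F) ≠ 0) :
    Nat.card (Iso T) ≤ (Fintype.card F + 1) * Fintype.card F ^ m *
      (2 * Fintype.card F ^ m * Nat.card (GL (Fin m) F)) := by
  classical
  have : Finite (Iso T) := Subtype.finite
  set T' := T.submatrix Fin.succ Fin.succ with hT'
  have : Finite (Iso T') := Subtype.finite
  let L := {x : Fin (m + 1 + 1) → F // x ⬝ᵥ (T *ᵥ x) = T 0 0}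
  let Fix := {A : Iso T // ∀ i, (A.1 : Matrix (Fin (m + 1 + 1)) (Fin (m + 1 + 1)) F) i 0 = if i = 0 then 1 else 0}
  have hrow : ∀ A : Fix, ∀ j : Fin (m + 1), (A.1.1 : Matrix (Fin (m + 1 + 1)) (Fin (m + 1 + 1)) F) 0 j.succ = 0 := by
    intro A j
    have h := congrFun (congrFun A.1.2 0) j.succ
    rw [congr', Matrix.mul_assoc, Matrix.mul_apply] at h
    simp only [transpose_apply, A.2, ite_mul, one_mul, zero_mul, Finset.sum_ite_eq', Finset.mem_univ,
      if_true] at h
    rw [Matrix.mul_apply, Fin.sum_univ_succ] at h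
    simp only [(hblk _).1, zero_mul, Finset.sum_const_zero, add_zero] at h
    exact (mul_eq_zero.mp h).resolve_left h00
  have hdet : ∀ A : Fix,
      ((A.1.1 : Matrix (Fin (m + 1 + 1)) (Fin (m + 1 + 1)) F).submatrix Fin.succ Fin.succ).det ≠ 0 := fun A h => by
    apply A.1.1.det_ne_zero
    rw [det_succ_column_zero, Fin.sum_univ_succ]
    simp [A.2, h, Fin.succ_ne_zero]
  have hfix : Nat.card Fix ≤ Nat.card (Iso T') := by
    refine Nat.card_le_card_of_injective
      (fun A => ⟨Matrix.GeneralLinearGroup.mkOfDetNeZero _ (hdet A), Matrix.ext fun i j => ?_⟩) fun A B hAB => ?_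
    · have h := congrFun (congrFun A.1.2 i.succ) j.succ
      rw [congr', Matrix.mul_apply, Fin.sum_univ_succ, hrow A j, mul_zero, zero_add] at h
      set S := (A.1.1 : Matrix (Fin (m + 1 + 1)) (Fin (m + 1 + 1)) F).submatrix Fin.succ Fin.succ with hS
      show (Sᵀ * T' * S) i j = T' i j
      rw [hT', submatrix_apply, ← h, Matrix.mul_apply]
      refine Finset.sum_congr rfl fun k _ => ?_
      congr 1
      simp only [Matrix.mul_apply, transpose_apply, submatrix_apply, hS, hT']
      rw [Fin.sum_univ_succ (n := m + 1), hrow A i, zero_mul, zero_add]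
    · have hblk2 : ∀ i j : Fin (m + 1), (A.1.1 : Matrix (Fin (m + 1 + 1)) (Fin (m + 1 + 1)) F) i.succ j.succ =
          (B.1.1 : Matrix (Fin (m + 1 + 1)) (Fin (m + 1 + 1)) F) i.succ j.succ := fun i j =>
        congrFun (congrFun (congrArg (fun g : Iso T' => (g.1 : Matrix (Fin (m + 1)) (Fin (m + 1)) F)) hAB) i) j
      refine Subtype.ext (Subtype.ext (Units.ext (Matrix.ext fun i j => ?_)))
      refine Fin.cases ?_ (fun j => ?_) j
      · rw [A.2, B.2]
      · refine Fin.cases ?_ (fun i => hblk2 i j) i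
        rw [hrow A j, hrow B j]
  have hL : Nat.card L ≤ (Fintype.card F + 1) * Fintype.card F ^ m := by
    refine le_trans ?_ (card_pair_level_le (T 0 0) (T' 0 0) (T 0 0) h00 h11 h00 h2
      (T'.submatrix Fin.succ Fin.succ) (by ext i j; simp [hT', hT.apply]))
    refine Nat.card_le_card_of_injective
      (fun x => ⟨((x.1 0, x.1 (Fin.succ 0)), fun i => x.1 i.succ.succ), ?_⟩) fun x y h => ?_
    · conv_rhs => rw [← x.2]
      simp only [dotProduct, mulVec, Fin.sum_univ_succ, hT', submatrix_apply] at *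
      have a1 := fun j => (hblk j).1
      have a2 := fun j => (hblk j).2
      have b1 : ∀ j : Fin m, T (Fin.succ 0) j.succ.succ = 0 := fun j => (hblk' j).1
      have b2 : ∀ j : Fin m, T j.succ.succ (Fin.succ 0) = 0 := fun j => (hblk' j).2
      simp only [a1, a2, b1, b2, zero_mul, mul_zero, add_zero, zero_add, Finset.sum_const_zero]
      ring
    · simp only [Subtype.mk.injEq, Prod.mk.injEq] at h
      exact Subtype.ext (funext fun i => Fin.cases h.1.1 (fun i => Fin.cases h.1.2 (fun i => congrFun h.2 i) i) i)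
  let col : Iso T → L := fun A => ⟨fun i => (A.1 : Matrix (Fin (m + 1 + 1)) (Fin (m + 1 + 1)) F) i 0, by
    have h := congrFun (congrFun A.2 0) 0
    rw [congr', Matrix.mul_assoc, Matrix.mul_apply] at h
    rw [← h, dotProduct]
    refine Finset.sum_congr rfl fun i _ => ?_
    rw [transpose_apply, Matrix.mul_apply]
    rfl⟩
  let one : Iso T := ⟨1, congr'_one T⟩
  let rep : L → Iso T := fun l => if h : ∃ A, col A = l then h.choose else one
  have hrep : ∀ A, col (rep (col A)) = col A := fun A => by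
    have h : ∃ B, col B = col A := ⟨A, rfl⟩
    simp only [rep, dif_pos h]
    exact h.choose_spec
  have hfx : ∀ A : Iso T, congr' T ((rep (col A)).1⁻¹ * A.1) = T := fun A => by
    rw [congr'_mul]
    conv_lhs => arg 1; arg 1; rw [← (rep (col A)).2]
    rw [← congr'_mul T, mul_inv_cancel, congr'_one, A.2]
  let f : Iso T → L × Fix :=
    fun A => (col A, ⟨⟨(rep (col A)).1⁻¹ * A.1, hfx A⟩, fun i => by
      have h := hrep A
      set B := (rep (col A)).1
      have hc : ∀ k, (A.1 : Matrix (Fin (m + 1 + 1)) (Fin (m + 1 + 1)) F) k 0 =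
          (B : Matrix (Fin (m + 1 + 1)) (Fin (m + 1 + 1)) F) k 0 := fun k =>
        (congrFun (congrArg Subtype.val h) k).symm
      have h1 : (((B⁻¹ * B : GL (Fin (m + 1 + 1)) F)) : Matrix (Fin (m + 1 + 1)) (Fin (m + 1 + 1)) F) i 0 =
          if i = 0 then 1 else 0 := by
        rw [inv_mul_cancel, Units.val_one, Matrix.one_apply]
      rw [← h1, Units.val_mul, Units.val_mul, Matrix.mul_apply, Matrix.mul_apply]
      exact Finset.sum_congr rfl fun k _ => by rw [hc k]⟩)
  have hf : Function.Injective f := fun A B h => by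
    have h1 : col A = col B := congrArg Prod.fst h
    have h2' : (rep (col A)).1⁻¹ * A.1 = (rep (col B)).1⁻¹ * B.1 := congrArg (fun p => p.2.1.1) h
    rw [h1] at h2'
    exact Subtype.ext (mul_left_cancel h2')
  refine (Nat.card_le_card_of_injective f hf).trans ?_
  rw [Nat.card_prod]
  exact Nat.mul_le_mul hL (hfix.trans (card_iso_le T' h11))

theorem card_orbit_mul_iso (T : Matrix (Fin n) (Fin n) F) :
    (Finset.univ.image (congr' T)).card * Nat.card {A : GL (Fin n) F // congr' T A = T} = Nat.card (GL (Fin n) F) := by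
  classical
  have hfib : ∀ S ∈ Finset.univ.image (congr' T),
      (Finset.univ.filter fun A => congr' T A = S).card = Nat.card {A : GL (Fin n) F // congr' T A = T} := by
    intro S hS
    obtain ⟨A₀, -, rfl⟩ := Finset.mem_image.mp hS
    rw [← Fintype.card_subtype, ← Nat.card_eq_fintype_card]
    refine Nat.card_congr (Equiv.subtypeEquiv (Equiv.mulRight A₀⁻¹) fun A => ?_)
    rw [Equiv.coe_mulRight, congr'_mul]
    refine ⟨fun h => by rw [h, ← congr'_mul, mul_inv_cancel, congr'_one], fun h => ?_⟩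
    conv_rhs => rw [← h]
    rw [← congr'_mul, ← congr'_mul, inv_mul_cancel, mul_one]
  have hcard := Finset.card_eq_sum_card_image (congr' T) (Finset.univ : Finset (GL (Fin n) F))
  rw [Finset.sum_congr rfl hfib, Finset.sum_const, smul_eq_mul, Finset.card_univ,
    ← Nat.card_eq_fintype_card] at hcard
  exact hcard.symm

/-- The orbit bound in rank at least two. -/
theorem orbit_bound_two (h2 : (2 : F) ≠ 0) {T : Matrix (Fin n) (Fin n) F} (hT : T.IsSymm)
    (hr : ¬ LowRank T) :
    (Fintype.card F ^ n - 1) * (Fintype.card F ^ n - Fintype.card F) ≤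
      2 * (Fintype.card F + 1) * (Finset.univ.image (congr' T)).card := by
  classical
  have hT0 : T ≠ 0 := fun h => hr ⟨0, 0, by simp [h]⟩
  rcases n with _ | k
  · exact absurd (Matrix.ext fun i => i.elim0) hT0
  obtain ⟨A, hA0, hAblk⟩ := exists_block h2 hT hT0
  have hSr : ¬ LowRank (congr' T A) := fun h => hr (by
    have := lowRank_congr' h A⁻¹
    rwa [← congr'_mul, mul_inv_cancel, congr'_one] at this)
  have hS' : (congr' T A).submatrix Fin.succ Fin.succ ≠ 0 := fun h => hSr
    ⟨congr' T A 0 0, Pi.single 0 1, Matrix.ext fun i j => by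
      refine Fin.cases ?_ (fun i => ?_) i <;> refine Fin.cases ?_ (fun j => ?_) j
      · simp [vecMulVec_apply]
      · simp [vecMulVec_apply, (hAblk j).1, Fin.succ_ne_zero]
      · simp [vecMulVec_apply, (hAblk i).2, Fin.succ_ne_zero]
      · simpa [vecMulVec_apply, Fin.succ_ne_zero] using congrFun (congrFun h i) j⟩
  rcases k with _ | m
  · exact absurd (Matrix.ext fun i => i.elim0) hS'
  obtain ⟨B, hB0, hBblk⟩ := exists_block h2
    (by ext i j; simp [(isSymm_congr' hT A).apply]) hS'
  -- extend the second change of basis by the identity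
  let C : Matrix (Fin (m + 1 + 1)) (Fin (m + 1 + 1)) F :=
    Matrix.of (Fin.cons (Pi.single 0 1) (fun i => Fin.cons 0 ((B : Matrix (Fin (m + 1)) (Fin (m + 1)) F) i)))
  have hC : C.det ≠ 0 := by
    rw [det_succ_column_zero, Fin.sum_univ_succ]
    simp [C]
    exact B.det_ne_zero
  let Cu := Matrix.GeneralLinearGroup.mkOfDetNeZero C hC
  set U := congr' T (A * Cu) with hU
  have e1 : U 0 0 = congr' T A 0 0 := by
    rw [hU, congr'_mul]
    show (Cᵀ * congr' T A * C) 0 0 = _
    simp [C, Matrix.mul_apply, Fin.sum_univ_succ]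
  have e2 : ∀ j : Fin (m + 1), U 0 j.succ = 0 ∧ U j.succ 0 = 0 := fun j => by
    rw [hU, congr'_mul]
    show (Cᵀ * congr' T A * C) 0 j.succ = 0 ∧ (Cᵀ * congr' T A * C) j.succ 0 = 0
    have a1 := fun j => (hAblk j).1
    have a2 := fun j => (hAblk j).2
    have a3 : congr' T A 1 0 = 0 := a2 0
    have a4 : congr' T A 0 1 = 0 := a1 0
    constructor <;> simp [C, Matrix.mul_apply, Fin.sum_univ_succ, a1, a2, a3, a4]
  have e3 : U.submatrix Fin.succ Fin.succ = congr' ((congr' T A).submatrix Fin.succ Fin.succ) B := by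
    ext i j
    rw [hU, congr'_mul]
    show (Cᵀ * congr' T A * C) i.succ j.succ = _
    rw [congr'.eq_def _ B]
    simp [C, Matrix.mul_apply, Fin.sum_univ_succ, hAblk]
  have hiso := card_iso_block U (by rw [e1]; exact hA0) e2 (by rw [e3]; exact hB0)
    (fun j => by rw [e3]; exact hBblk j) (isSymm_congr' hT _) h2
  have hcard := card_orbit_mul_iso U
  rw [hU, image_congr'_congr, ← hU, card_GL_succ, card_GL_succ] at hcard
  set q := Fintype.card F
  set g := Nat.card (GL (Fin m) F)
  set o := (Finset.univ.image (congr' T)).card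
  have hq : q ^ (m + 1 + 1) - q = q * (q ^ (m + 1) - 1) := by
    rw [Nat.mul_sub, ← pow_succ', mul_one]
  rw [hq]
  refine Nat.le_of_mul_le_mul_right ?_ (show 0 < q ^ m * q ^ m * g from
    Nat.mul_pos (Nat.mul_pos (Nat.pow_pos Fintype.card_pos) (Nat.pow_pos Fintype.card_pos)) Nat.card_pos)
  calc (q ^ (m + 1 + 1) - 1) * (q * (q ^ (m + 1) - 1)) * (q ^ m * q ^ m * g)
      = (q ^ (m + 1 + 1) - 1) * q ^ (m + 1) * ((q ^ (m + 1) - 1) * q ^ m * g) := by
        rw [pow_succ q m]; ring
    _ = o * Nat.card (Iso U) := hcard.symm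
    _ ≤ o * ((q + 1) * q ^ m * (2 * q ^ m * g)) := Nat.mul_le_mul_left _ hiso
    _ = 2 * (q + 1) * o * (q ^ m * q ^ m * g) := by ring

end CfsgLib.SpWeilGap
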