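import Cfsg.Agent.Lib.SpWeilGap.Weights
import Cfsg.Agent.Lib.SpMinDegree.Schrodinger

/-!
The stabiliser of a vector in `Sp(2n, F)` and its Heisenberg radical.
-/

set_option autoImplicit false
set_option linter.unusedSectionVars false

namespace CfsgLib.SpWeilGap

open Matrix CfsgLib.SpMinDegree CfsgLib.Classical.SympTrans Cfsg
open scoped MatrixGroups

variable {F : Type*} [Field F] [Fintype F] [DecidableEq F] {m : ℕ}

local notation "X" => (Fin (m + 1) → F)
local notation "V" => (Fin (m + 1) ⊕ Fin (m + 1) → F)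
local notation "G" => Matrix.symplecticGroup (Fin (m + 1)) F
local notation "ω" => sympForm (m + 1) F
local notation "SymM" => CfsgLib.SpMinDegree.Sym

/-- A vector from its halves. -/
def vec (p r : X) : V := Sum.elim p r

theorem fstV_vec (p r : X) : fstV (vec p r) = p := rfl

theorem sndV_vec (p r : X) : sndV (vec p r) = r := rfl

theorem vec_halves (v : V) : vec (fstV v) (sndV v) = v := ext_halves rfl rfl

theorem form_vec (p r p' r' : X) : ω (vec p r) (vec p' r') = r ⬝ᵥ p' - p ⬝ᵥ r' := form_eq _ _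

variable (F m) in
/-- The first coordinate vector. -/
def e₀ : X := Pi.single 0 1

variable (F m) in
/-- The first basis vector. -/
def eV : V := vec (e₀ F m) 0

variable (F m) in
/-- The partner of the first basis vector. -/
def fV : V := vec 0 (e₀ F m)

theorem eV_ne : eV F m ≠ 0 := fun h => by
  simpa [eV, vec, e₀] using congrFun h (.inl 0)

theorem form_eV (v : V) : ω (eV F m) v = -(sndV v 0) := by
  rw [← vec_halves v, eV, form_vec, sndV_vec]
  simp [e₀]

theorem form_fV (v : V) : ω (fV F m) v = fstV v 0 := by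
  rw [← vec_halves v, fV, form_vec, fstV_vec]
  simp [e₀]

theorem app_unip (S : SymM F (m + 1)) (p r : X) : app (unip S : G) (vec p r) = vec (p + S.1 *ᵥ r) r := by
  show Matrix.fromBlocks 1 S.1 0 1 *ᵥ Sum.elim p r = _
  rw [fromBlocks_mulVec]
  simp [vec, one_mulVec, zero_mulVec]

theorem app_leviS (A : GL (Fin (m + 1)) F) (p r : X) :
    app (leviS A : G) (vec p r) =
      vec ((A : Matrix (Fin (m + 1)) (Fin (m + 1)) F) *ᵥ p)
        (((A⁻¹ : GL (Fin (m + 1)) F) : Matrix (Fin (m + 1)) (Fin (m + 1)) F)ᵀ *ᵥ r) := by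
  show Matrix.fromBlocks _ 0 0 _ *ᵥ Sum.elim p r = _
  rw [fromBlocks_mulVec]
  simp [vec, zero_mulVec]

/-- The line matrix. -/
def line (c : F) (p : X) : SymM F (m + 1) :=
  ⟨c • vecMulVec p p, by
    show (_ : Matrix (Fin (m + 1)) (Fin (m + 1)) F)ᵀ = _
    rw [transpose_smul, transpose_vecMulVec]⟩

theorem T_vec (p : X) (c : F) : T (vec p 0) c = unip (line c p) := ext_app fun x => by
  rw [app_T, ← vec_halves x, app_unip, form_vec]
  simp only [line, dotProduct_zero, sub_zero, smul_mulVec, vecMulVec_mulVec]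
  refine ext_halves ?_ ?_
  · rw [fstV_add, fstV_vec, fstV_vec]
    funext i
    simp [fstV, vec, dotProduct_comm]
    ring
  · rw [sndV_add, sndV_vec, sndV_vec]
    funext i
    simp [sndV, vec]

theorem trChar_line (y p : X) (α c : F) :
    trChar (α • vecMulVec y y) (line c p) = RankOne.psi F (α * c * (y ⬝ᵥ p) * (y ⬝ᵥ p)) := by
  rw [trChar_apply]
  congr 1
  show Matrix.trace (α • vecMulVec y y * (c • vecMulVec p p)) = _
  rw [Matrix.smul_mul, Matrix.mul_smul, vecMulVec_mul_vecMulVec, trace_smul, trace_smul, trace_vecMulVec]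
  simp only [smul_eq_mul, dotProduct_smul]
  ring

/-- The transvection shifting the first coordinate vector to `x`. -/
def shift (x : X) (hx : x 0 = 1) : GL (Fin (m + 1)) F where
  val := 1 + vecMulVec (e₀ F m) (e₀ F m - x)
  inv := 1 - vecMulVec (e₀ F m) (e₀ F m - x)
  val_inv := by
    have h : (e₀ F m - x) ⬝ᵥ e₀ F m = 0 := by simp [e₀, hx]
    rw [mul_sub, add_mul, add_mul, one_mul, mul_one, one_mul, vecMulVec_mul_vecMulVec, h]
    simp
  inv_val := by
    have h : (e₀ F m - x) ⬝ᵥ e₀ F m = 0 := by simp [e₀, hx]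
    rw [mul_add, sub_mul, sub_mul, one_mul, mul_one, one_mul, vecMulVec_mul_vecMulVec, h]
    simp

/-- The translation element. -/
def tau (x : X) (hx : x 0 = 1) : G := leviS (shift x hx)

theorem vecMul_shift (y x : X) (hx : x 0 = 1) :
    y ᵥ* (shift x hx : Matrix (Fin (m + 1)) (Fin (m + 1)) F) = y + y 0 • (e₀ F m - x) := by
  show y ᵥ* (1 + vecMulVec _ _) = _
  rw [vecMul_add, vecMul_one, vecMul_vecMulVec]
  simp [e₀]

theorem congr_shift (y x : X) (hx : x 0 = 1) (α : F) :
    congr' (α • vecMulVec y y) (shift x hx) =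
      α • vecMulVec (y + y 0 • (e₀ F m - x)) (y + y 0 • (e₀ F m - x)) := by
  rw [congr', Matrix.mul_smul, Matrix.smul_mul, mul_vecMulVec, vecMulVec_mul, mulVec_transpose, vecMul_shift]

theorem app_tau (x : X) (hx : x 0 = 1) (p r : X) :
    app (tau x hx) (vec p r) = vec (p + ((e₀ F m - x) ⬝ᵥ p) • e₀ F m) (r - r 0 • (e₀ F m - x)) := by
  rw [tau, app_leviS]
  congr 1
  · show (1 + vecMulVec _ _) *ᵥ p = _
    rw [add_mulVec, one_mulVec, vecMulVec_mulVec]
    simp [-MulOpposite.op_sub]
  · show (1 - vecMulVec _ _)ᵀ *ᵥ r = _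
    rw [mulVec_transpose, vecMul_sub, vecMul_one, vecMul_vecMulVec]
    simp [e₀]

variable (F m) in
/-- The stabiliser of the first basis vector. -/
def Stab : Subgroup G where
  carrier := {g | app g (eV F m) = eV F m}
  one_mem' := app_one _
  mul_mem' {a b} ha hb := by
    show app (a * b) _ = _
    rw [app_mul, show app b _ = _ from hb, show app a _ = _ from ha]
  inv_mem' {a} ha := by
    show app a⁻¹ _ = _
    conv_lhs => rw [← show app a (eV F m) = eV F m from ha]
    exact app_inv a _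

theorem mem_Stab {g : G} : g ∈ Stab F m ↔ app g (eV F m) = eV F m := Iff.rfl

/-- Membership in the Heisenberg radical. -/
def InH (g : G) : Prop :=
  app g (eV F m) = eV F m ∧ ∀ v : V, ω (eV F m) v = 0 → ∃ c : F, app g v = v + c • eV F m

theorem InH.conj {g : G} (hg : InH g) {k : G} (hk : k ∈ Stab F m) : InH (k⁻¹ * g * k) := by
  have hki : app k⁻¹ (eV F m) = eV F m := inv_mem hk
  refine ⟨by rw [app_mul, app_mul, mem_Stab.mp hk, hg.1, hki], fun v hv => ?_⟩
  obtain ⟨c, hc⟩ := hg.2 (app k v) (by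
    conv_lhs => rw [← mem_Stab.mp hk, f_app]
    exact hv)
  exact ⟨c, by rw [app_mul, app_mul, hc, app_add, app_smul, app_inv, hki]⟩

theorem InH.mul {g h : G} (hg : InH g) (hh : InH h) : InH (g * h) := by
  refine ⟨by rw [app_mul, hh.1, hg.1], fun v hv => ?_⟩
  obtain ⟨c, hc⟩ := hh.2 v hv
  obtain ⟨d, hd⟩ := hg.2 v hv
  exact ⟨d + c, by rw [app_mul, hc, app_add, app_smul, hd, hg.1, add_smul, add_assoc]⟩

theorem InH.inv {g : G} (hg : InH g) : InH g⁻¹ := by
  have h1 : app g⁻¹ (eV F m) = eV F m := by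
    conv_lhs => rw [← hg.1]
    exact app_inv g _
  refine ⟨h1, fun v hv => ?_⟩
  obtain ⟨c, hc⟩ := hg.2 v hv
  refine ⟨-c, ?_⟩
  have := congrArg (app g⁻¹) hc
  rw [app_inv, app_add, app_smul, h1] at this
  rw [neg_smul, ← sub_eq_add_neg]
  exact eq_sub_of_add_eq this.symm

/-- A symmetric matrix supported on the first row and column. -/
def Border (S : SymM F (m + 1)) : Prop := ∀ i j : Fin (m + 1), i ≠ 0 → j ≠ 0 → S.1 i j = 0

theorem inH_unip {S : SymM F (m + 1)} (hS : Border S) : InH (unip S : G) := by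
  refine ⟨by rw [eV, app_unip, mulVec_zero, add_zero], fun v hv => ?_⟩
  rw [form_eV, neg_eq_zero] at hv
  refine ⟨(S.1 *ᵥ sndV v) 0, ?_⟩
  conv_lhs => rw [← vec_halves v, app_unip]
  refine ext_halves ?_ ?_
  · funext i
    rw [fstV_add, fstV_vec]
    show fstV v i + (S.1 *ᵥ sndV v) i = fstV v i + (S.1 *ᵥ sndV v) 0 * e₀ F m i
    congr 1
    by_cases hi : i = 0
    · subst hi; simp [e₀]
    · simp only [e₀, Pi.single_eq_of_ne hi, mul_zero, mulVec, dotProduct]
      refine Finset.sum_eq_zero fun j _ => ?_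
      by_cases hj : j = 0
      · subst hj; rw [hv, mul_zero]
      · rw [hS i j hi hj, zero_mul]
  · funext i
    rw [sndV_add, sndV_vec]
    simp [sndV, eV, vec]

theorem inH_tau (x : X) (hx : x 0 = 1) : InH (tau x hx) := by
  refine ⟨by rw [eV, app_tau]; simp [e₀, hx], fun v hv => ?_⟩
  rw [form_eV, neg_eq_zero] at hv
  refine ⟨(e₀ F m - x) ⬝ᵥ fstV v, ?_⟩
  conv_lhs => rw [← vec_halves v, app_tau]
  refine ext_halves ?_ ?_
  · rw [fstV_vec, fstV_add]; rfl
  · rw [sndV_vec, sndV_add, hv, zero_smul, sub_zero]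
    funext i
    simp [sndV, eV, vec]

theorem InH.eq_one {g : G} (hg : InH g) (hf : app g (fV F m) = fV F m) : g = 1 := by
  refine ext_app fun v => ?_
  rw [app_one]
  have he : ω (eV F m) (fV F m) = -1 := by rw [form_eV, fV, sndV_vec]; simp [e₀]
  obtain ⟨c, hc⟩ := hg.2 (v + ω (eV F m) v • fV F m) (by
    rw [f_add_right, f_smul_right, he]; ring)
  rw [app_add, app_smul, hf] at hc
  have h1 : app g v = v + c • eV F m := by
    rw [add_right_comm] at hc
    exact add_right_cancel hc
  have h2 := f_app g v (fV F m)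
  rw [hf, h1, f_add_left, f_smul_left, he] at h2
  have : c = 0 := by linear_combination -h2
  rw [h1, this, zero_smul, add_zero]

theorem exists_hmove {g : G} (hg : app g (eV F m) = eV F m) :
    ∃ (S : SymM F (m + 1)) (x : X) (hx : x 0 = 1), Border S ∧ sndV (app g (fV F m)) = x ∧
      app (unip S * tau x hx) (fV F m) = app g (fV F m) := by
  set p := fstV (app g (fV F m)) with hp
  set r := sndV (app g (fV F m)) with hr
  have hr0 : r 0 = 1 := by
    have h := f_app g (eV F m) (fV F m)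
    rw [hg, form_eV, form_eV] at h
    simpa [fV, sndV_vec, e₀, hr] using h
  let μ : F := p 0 - ∑ i ∈ Finset.univ.erase (0 : Fin (m + 1)), p i * r i
  let S : SymM F (m + 1) := ⟨Matrix.of fun i j =>
    if i = 0 then (if j = 0 then μ else p j) else (if j = 0 then p i else 0), by
    show (_ : Matrix (Fin (m + 1)) (Fin (m + 1)) F)ᵀ = _
    ext i j
    by_cases hi : i = 0 <;> by_cases hj : j = 0 <;> simp [transpose_apply, hi, hj]⟩
  have hS : Border S := fun i j hi hj => by simp [S, hi, hj]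
  have hSr : S.1 *ᵥ r = p := by
    funext i
    simp only [mulVec, dotProduct, S, of_apply]
    rw [← Finset.add_sum_erase _ _ (Finset.mem_univ (0 : Fin (m + 1)))]
    by_cases hi : i = 0
    · subst hi
      simp only [if_true, hr0, mul_one]
      rw [Finset.sum_congr rfl fun j hj => by rw [if_neg (Finset.ne_of_mem_erase hj)]]
      show μ + _ = _
      simp [μ]
    · simp only [if_neg hi, if_true, hr0, mul_one]
      rw [Finset.sum_eq_zero fun j hj => by rw [if_neg (Finset.ne_of_mem_erase hj), zero_mul], add_zero]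
  refine ⟨S, r, hr0, hS, hr, ?_⟩
  conv_rhs => rw [← vec_halves (app g (fV F m))]
  rw [app_mul, fV, app_tau, app_unip]
  simp only [e₀, dotProduct_zero, zero_smul, add_zero, Pi.single_eq_same, one_smul, sub_sub_cancel,
    zero_add, hSr]
  rfl

theorem InH.factor {g : G} (hg : InH g) : ∃ (S : SymM F (m + 1)) (x : X) (hx : x 0 = 1),
    Border S ∧ g = unip S * tau x hx ∧ sndV (app g (fV F m)) = x := by
  obtain ⟨S, x, hx, hS, hr, himg⟩ := exists_hmove hg.1
  refine ⟨S, x, hx, hS, ?_, hr⟩
  have hh : InH (unip S * tau x hx) := (inH_unip hS).mul (inH_tau x hx)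
  have := (hh.inv.mul hg).eq_one (by rw [app_mul, ← himg, app_inv])
  exact (inv_mul_eq_one.mp this).symm

theorem W_one_perp {v : V} (hv : v ∈ W (F := F) (m := m + 1) 1) :
    ω (eV F m) v = 0 ∧ ω (fV F m) v = 0 := by
  obtain ⟨h1, h2⟩ := hv 0 (by simp)
  exact ⟨by rw [form_eV, sndV, h2, neg_zero], by rw [form_fV, fstV, h1]⟩

theorem exists_fix_basis_one {g : G} (he : app g (eV F m) = eV F m) (hf : app g (fV F m) = fV F m) :
    ∀ k, 1 ≤ k → k ≤ m + 1 → ∃ h ∈ gen ((W (F := F) (m := m + 1) 1 : Submodule F V) : Set V),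
      ∀ i : Fin (m + 1), (i : ℕ) < k →
      app (h * g) (Pi.single (.inl i) 1) = Pi.single (.inl i) 1 ∧
      app (h * g) (Pi.single (.inr i) 1) = Pi.single (.inr i) 1 := by
  intro k
  induction k with
  | zero => intro h; omega
  | succ k ih =>
    intro _ hk
    rcases Nat.eq_zero_or_pos k with rfl | hk1
    · refine ⟨1, one_mem _, fun i hi => ?_⟩
      obtain rfl : i = 0 := Fin.ext (by simpa using hi)
      have e1 : (Pi.single (.inl 0) 1 : V) = eV F m := by
        funext j; rcases j with j | j <;> simp [eV, vec, e₀, Pi.single_apply]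
      have e2 : (Pi.single (.inr 0) 1 : V) = fV F m := by
        funext j; rcases j with j | j <;> simp [fV, vec, e₀, Pi.single_apply]
      rw [one_mul, e1, e2]
      exact ⟨he, hf⟩
    obtain ⟨h, hh, hfix⟩ := ih hk1 (by omega)
    set i₀ : Fin (m + 1) := ⟨k, by omega⟩
    have hmem : ∀ j : Fin (m + 1) ⊕ Fin (m + 1), Sum.elim id id j = i₀ → (Pi.single j (1 : F) : V) ∈ W k := by
      intro j hj i hi
      have hne : i ≠ i₀ := fun e => by subst e; exact lt_irrefl k hi
      constructor <;>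
      · refine Pi.single_eq_of_ne (fun e => hne ?_) _
        subst e
        exact hj
    have hWimg : ∀ x ∈ W k, app (h * g) x ∈ W k := by
      intro x hx i hi
      obtain ⟨e1, e2⟩ := hfix i hi
      constructor
      · have h3 := f_app (h * g) x (Pi.single (.inr i) 1)
        rw [e2, f_inr, f_inr, (hx i hi).1] at h3
        simpa using h3
      · have h3 := f_app (h * g) x (Pi.single (.inl i) 1)
        rw [e1, f_inl, f_inl, (hx i hi).2] at h3
        exact h3
    obtain ⟨g', hg', h1, h2⟩ := exists_move_pair (k := k)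
      (u := app (h * g) (Pi.single (.inr i₀) 1)) (v := app (h * g) (Pi.single (.inl i₀) 1))
      (u' := Pi.single (.inr i₀) 1) (v' := Pi.single (.inl i₀) 1)
      (hWimg _ (hmem _ rfl)) (hWimg _ (hmem _ rfl)) (hmem _ rfl) (hmem _ rfl)
      (by rw [f_app, f_inl]; simp) (by rw [f_inl]; simp)
    refine ⟨g' * h, mul_mem (gen_mono (show ((W k : Submodule F V) : Set V) ⊆
      ((W (F := F) (m := m + 1) 1 : Submodule F V) : Set V) from
      fun x hx i hi => hx i (by omega)) hg') hh, fun i hi => ?_⟩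
    rw [mul_assoc, app_mul g', app_mul g']
    rcases Nat.lt_succ_iff_lt_or_eq.1 hi with hi | hi
    · obtain ⟨e1, e2⟩ := hfix i hi
      rw [e1, e2]
      refine ⟨gen_fix (fun w hw => ?_) hg', gen_fix (fun w hw => ?_) hg'⟩
      · rw [f_swap, f_inl, (hw i hi).2, neg_zero]
      · rw [f_swap, f_inr, (hw i hi).1, neg_zero, neg_zero]
    · obtain rfl : i = i₀ := Fin.ext hi
      exact ⟨h2, h1⟩

theorem exists_stab_move (hm : 1 ≤ m) {w : V} (hw : ω (eV F m) w = 0) (hi : ∀ a : F, w ≠ a • eV F m) :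
    ∃ k ∈ Stab F m, app k (vec (Pi.single ⟨1, by omega⟩ 1) 0) = w := by
  obtain ⟨k, hk, hkw⟩ := exists_move_perp (u := eV F m) (w := vec (Pi.single ⟨1, by omega⟩ 1) 0) (w' := w)
    (by rw [form_eV, sndV_vec]; simp) hw (fun a h => by
      have := congrFun h (.inl ⟨1, by omega⟩)
      simp [vec, eV, e₀, Fin.ext_iff] at this) hi
  exact ⟨k, hk, hkw⟩

/-- A subgroup containing the Heisenberg radical and the Siegel radical, normalised by the stabiliser
of the first basis vector, contains this stabiliser. -/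
theorem stab_le (hm : 1 ≤ m) (N : Subgroup G) (hu : ∀ S, (unip S : G) ∈ N)
    (hτ : ∀ x hx, tau x hx ∈ N) (hnorm : ∀ k ∈ Stab F m, ∀ g ∈ N, k * g * k⁻¹ ∈ N) : Stab F m ≤ N := by
  intro g hg
  -- move the partner back
  obtain ⟨a, ha, hga⟩ : ∃ a ∈ N, a ∈ Stab F m ∧ app a (fV F m) = app g (fV F m) := by
    obtain ⟨S, x, hx, hS, -, himg⟩ := exists_hmove hg
    exact ⟨_, mul_mem (hu S) (hτ x hx), ((inH_unip hS).mul (inH_tau x hx)).1, himg⟩
  have hgen : gen ((W (F := F) (m := m + 1) 1 : Submodule F V) : Set V) ≤ N := by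
    rw [gen, Subgroup.closure_le]
    rintro _ ⟨v, hv, c, rfl⟩
    by_cases hi : ∃ b : F, v = b • eV F m
    · obtain ⟨b, rfl⟩ := hi
      rw [T_smul, eV, T_vec]
      exact hu _
    obtain ⟨k, hk, rfl⟩ := exists_stab_move hm (W_one_perp hv).1 (fun b h => hi ⟨b, h⟩)
    rw [← conj_T, T_vec]
    exact hnorm k hk _ (hu _)
  set g₁ := a⁻¹ * g with hg1
  have he : app g₁ (eV F m) = eV F m := (mul_mem (inv_mem hga.1) hg : g₁ ∈ Stab F m)
  have hf : app g₁ (fV F m) = fV F m := by rw [hg1, app_mul, ← hga.2, app_inv]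
  obtain ⟨h, hh, hfix⟩ := exists_fix_basis_one he hf (m + 1) (by omega) le_rfl
  have h1 : h * g₁ = 1 := Subtype.ext <| Matrix.ext_of_mulVec_single fun j => by
    rcases j with i | i
    · exact ((hfix i i.2).1).trans (one_mulVec _).symm
    · exact ((hfix i i.2).2).trans (one_mulVec _).symm
  have : g₁ ∈ N := by rw [eq_inv_of_mul_eq_one_right h1]; exact inv_mem (hgen hh)
  simpa [hg1] using mul_mem ha this

end CfsgLib.SpWeilGap
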