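import Cfsg.Agent.Lib.SpWeilGap.Orbit
import Cfsg.Agent.Lib.SpMinDegree.Siegel
import Cfsg.Agent.Lib.SUMinDegree.Eigen

/-!
Weights of the Siegel radical of `Sp(2n, F)`, `F` of odd order, in a complex representation.
-/

set_option autoImplicit false
set_option linter.unusedSectionVars false

namespace CfsgLib.SpWeilGap

open Matrix Module CfsgLib.SpMinDegree CfsgLib.SUMinDegree CfsgLib.Classical.SympTrans
open scoped MatrixGroups

section Proj

variable {G : Type*} [Group G] {V : Type*} [AddCommGroup V] [Module ℂ V] (ρ : Representation ℂ G V)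
variable {A : Type*} [AddCommGroup A] [Fintype A] (T : A → G)

/-- The normalised projection on a weight space. -/
noncomputable def projL (ψ : AddChar A ℂ) : V →ₗ[ℂ] V :=
  (Fintype.card A : ℂ)⁻¹ • ∑ a : A, ψ (-a) • ρ (T a)

theorem projL_apply (ψ : AddChar A ℂ) (v : V) :
    projL ρ T ψ v = (Fintype.card A : ℂ)⁻¹ • proj ρ T ψ v := by
  simp [projL, proj, LinearMap.sum_apply]

variable {T} (hT : ∀ a b, T (a + b) = T a * T b)

include hT in
theorem projL_mem (ψ : AddChar A ℂ) (v : V) : projL ρ T ψ v ∈ weight ρ T ψ := by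
  rw [projL_apply]
  exact Submodule.smul_mem _ _ (proj_mem_weight ρ hT ψ v)

theorem projL_weight {ψ φ : AddChar A ℂ} {v : V} (hv : v ∈ weight ρ T φ) :
    projL ρ T ψ v = (if φ = ψ then (1 : ℂ) else 0) • v := by
  classical
  rw [projL_apply, proj_of_weight ρ ψ φ hv, smul_smul, mul_ite, mul_zero,
    inv_mul_cancel₀ (Nat.cast_ne_zero.mpr Fintype.card_ne_zero)]

theorem projL_self {ψ : AddChar A ℂ} {v : V} (hv : v ∈ weight ρ T ψ) : projL ρ T ψ v = v := by
  classical
  rw [projL_weight ρ hv, if_pos rfl, one_smul]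

include hT in
theorem projL_sum (v : V) : ∑ ψ : AddChar A ℂ, projL ρ T ψ v = v := by
  simp only [projL_apply, ← Finset.smul_sum]
  rw [sum_proj ρ hT, inv_smul_smul₀ (Nat.cast_ne_zero.mpr Fintype.card_ne_zero)]

include hT in
/-- Linear maps agreeing on every weight vector are equal. -/
theorem ext_weight {W : Type*} [AddCommGroup W] [Module ℂ W] {f g : V →ₗ[ℂ] W}
    (h : ∀ (ψ : AddChar A ℂ), ∀ v ∈ weight ρ T ψ, f v = g v) : f = g := by
  refine LinearMap.ext fun v => ?_
  rw [← projL_sum ρ hT v, map_sum, map_sum]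
  exact Finset.sum_congr rfl fun ψ _ => h ψ _ (projL_mem ρ hT ψ v)

theorem projL_conj {T' : A → G} {g : G} (h : ∀ a, g * T a * g⁻¹ = T' a) (ψ : AddChar A ℂ) :
    ρ g ∘ₗ projL ρ T ψ = projL ρ T' ψ ∘ₗ ρ g := by
  refine LinearMap.ext fun v => ?_
  simp only [projL, LinearMap.coe_comp, Function.comp_apply, LinearMap.smul_apply, LinearMap.sum_apply,
    map_smul, map_sum]
  congr 1
  refine Finset.sum_congr rfl fun a _ => ?_
  rw [← h a, ← Module.End.mul_apply (ρ g), ← map_mul, ← Module.End.mul_apply _ (ρ g), ← map_mul]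
  congr 3
  group

end Proj

variable {F : Type*} [Field F] [Fintype F] [DecidableEq F] {n : ℕ}

local notation "G" => Matrix.symplecticGroup (Fin n) F
local notation "SymM" => CfsgLib.SpMinDegree.Sym

theorem unip_add (S R : SymM F n) : (unip (S + R) : G) = unip S * unip R :=
  AddChar.map_add_eq_mul _ S R

variable {V : Type*} [AddCommGroup V] [Module ℂ V] (ρ : Representation ℂ ↥(Matrix.symplecticGroup (Fin n) F) V)

/-- The weight space of a symmetric matrix. -/
noncomputable def wt (T : Matrix (Fin n) (Fin n) F) : Submodule ℂ V :=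
  weight ρ ⇑(unip : AddChar (SymM F n) G) (trChar T)

theorem mem_wt {T : Matrix (Fin n) (Fin n) F} {v : V} :
    v ∈ wt ρ T ↔ ∀ S : SymM F n, ρ (unip S) v = trChar T S • v := mem_weight ρ _

theorem trChar_apply (T : Matrix (Fin n) (Fin n) F) (S : SymM F n) :
    trChar T S = RankOne.psi F (Matrix.trace (T * S.1)) := rfl

theorem psi_inj {a b : F} (h : ∀ c, RankOne.psi F (a * c) = RankOne.psi F (b * c)) : a = b := by
  by_contra hne
  have h1 := RankOne.psi_sum (a - b)
  have h2 : ∀ c, RankOne.psi F ((a - b) * c) = 1 := fun c => by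
    rw [sub_mul, sub_eq_add_neg, AddChar.map_add_eq_mul, h c, ← AddChar.map_add_eq_mul, add_neg_cancel,
      AddChar.map_zero_eq_one]
  rw [if_neg (sub_ne_zero.mpr hne), Finset.sum_congr rfl fun c _ => h2 c, Finset.sum_const,
    Finset.card_univ, nsmul_one] at h1
  exact Nat.cast_ne_zero.mpr Fintype.card_ne_zero h1

theorem trChar_inj (h2 : (2 : F) ≠ 0) :
    Function.Injective fun T : SymM F n => trChar T.1 := by
  intro T T' h
  have hT : (T.1)ᵀ = T.1 := T.2
  have hT' : (T'.1)ᵀ = T'.1 := T'.2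
  refine Subtype.ext (Matrix.ext fun i j => mul_left_cancel₀ h2 (psi_inj fun c => ?_))
  let S : SymM F n := ⟨Matrix.single j i c + Matrix.single i j c, by
    show (_ : Matrix (Fin n) (Fin n) F)ᵀ = _
    rw [transpose_add, transpose_single, transpose_single, add_comm]⟩
  have h1 : ∀ R : Matrix (Fin n) (Fin n) F, Rᵀ = R → Matrix.trace (R * S.1) = 2 * R i j * c := fun R hR => by
    show Matrix.trace (R * (Matrix.single j i c + Matrix.single i j c)) = _
    rw [Matrix.mul_add, Matrix.trace_add, Matrix.trace_mul_single, Matrix.trace_mul_single,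
      show R j i = R i j from congrFun (congrFun hR i) j]
    simp only [op_smul_eq_smul, smul_eq_mul]
    ring
  have h3 := DFunLike.congr_fun h S
  rw [trChar_apply, trChar_apply, h1 _ hT, h1 _ hT'] at h3
  exact h3

theorem exists_trChar (h2 : (2 : F) ≠ 0) (ψ : AddChar (SymM F n) ℂ) :
    ∃ T : SymM F n, trChar T.1 = ψ := by
  classical
  exact ((Fintype.bijective_iff_injective_and_card fun T : SymM F n => trChar T.1).mpr
    ⟨trChar_inj h2, AddChar.card_eq.symm⟩).2 ψ

/-- Linear maps agreeing on the weight vectors of all symmetric matrices are equal. -/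
theorem ext_wt (h2 : (2 : F) ≠ 0) {W : Type*} [AddCommGroup W] [Module ℂ W] {f g : V →ₗ[ℂ] W}
    (h : ∀ T : Matrix (Fin n) (Fin n) F, T.IsSymm → ∀ v ∈ wt ρ T, f v = g v) : f = g :=
  ext_weight ρ unip_add fun ψ v hv => by
    obtain ⟨T, rfl⟩ := exists_trChar h2 ψ
    exact h T.1 T.2 v hv

theorem congr_trChar (T : Matrix (Fin n) (Fin n) F) (A : GL (Fin n) F) (S : SymM F n) :
    trChar (congr' T A) S = trChar T (symCongr A S) := by
  show RankOne.psi F (Matrix.trace (_ * T * _ * S.1)) = RankOne.psi F (Matrix.trace (T * (_ * S.1 * _)))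
  congr 1
  rw [Matrix.mul_assoc, Matrix.mul_assoc, Matrix.trace_mul_comm, Matrix.mul_assoc]

theorem levi_mem_wt {T : Matrix (Fin n) (Fin n) F} (A : GL (Fin n) F) {v : V} (hv : v ∈ wt ρ T) :
    ρ (leviS A)⁻¹ v ∈ wt ρ (congr' T A) := (mem_wt ρ).mpr fun S => by
  rw [← Module.End.mul_apply, ← map_mul,
    show unip S * (leviS A)⁻¹ = (leviS A)⁻¹ * unip (symCongr A S) by rw [← leviS_conj]; group,
    map_mul, Module.End.mul_apply, (mem_wt ρ).mp hv, map_smul, congr_trChar]

/-- Only weights of rank at most one. -/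
def LowRep : Prop := ∀ T : Matrix (Fin n) (Fin n) F, T.IsSymm → wt ρ T ≠ ⊥ → LowRank T

/-- A weight of rank at least two forces a large degree. -/
theorem degree_of_not_low (h2 : (2 : F) ≠ 0) [FiniteDimensional ℂ V] (h : ¬ LowRep ρ) :
    (Fintype.card F ^ n - 1) * (Fintype.card F ^ n - Fintype.card F) ≤
      2 * (Fintype.card F + 1) * finrank ℂ V := by
  classical
  simp only [LowRep, not_forall] at h
  obtain ⟨T, hT, hne, hr⟩ := h
  set O := Finset.univ.image (congr' T) with hO
  have hinj : Function.Injective fun U : O => trChar U.1 := fun U U' e => by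
    obtain ⟨A, -, hA⟩ := Finset.mem_image.mp U.2
    obtain ⟨A', -, hA'⟩ := Finset.mem_image.mp U'.2
    have := trChar_inj h2 (a₁ := ⟨U.1, by rw [← hA]; exact isSymm_congr' hT A⟩)
      (a₂ := ⟨U'.1, by rw [← hA']; exact isSymm_congr' hT A'⟩) e
    exact Subtype.ext (congrArg (fun S : SymM F n => S.1) this)
  have hsum := sum_finrank_le ρ (T := ⇑(unip : AddChar (SymM F n) G)) _ hinj (⊤ : Submodule ℂ V)
  have hle : O.card ≤ finrank ℂ V := by
    refine le_trans ?_ (hsum.trans (Submodule.finrank_le _))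
    rw [← Fintype.card_coe, ← Finset.card_univ, Finset.card_eq_sum_ones]
    refine Finset.sum_le_sum fun U _ => ?_
    rw [top_inf_eq, Submodule.one_le_finrank_iff]
    obtain ⟨A, -, hA⟩ := Finset.mem_image.mp U.2
    obtain ⟨v, hv, hv0⟩ := Submodule.exists_mem_ne_zero_of_ne_bot hne
    refine (Submodule.ne_bot_iff _).mpr ⟨ρ (leviS A)⁻¹ v, ?_, fun e => hv0 ?_⟩
    · rw [← hA]; exact levi_mem_wt ρ A hv
    · have h' := congrArg (ρ (leviS A)) e
      simpa [← Module.End.mul_apply, ← map_mul] using h'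
  exact (orbit_bound_two h2 hT hr).trans (Nat.mul_le_mul_left _ hle)

end CfsgLib.SpWeilGap
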